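import Groth.Agent.ShStab.K847.GLTwist
import Groth.Agent.AbVar.K526.Cut

/-!
# Restriction theorems: definitions and the statements of the geometric inputs (namespace `K781.Base`)

`E` on `P^n_k` pure of dimension `d`, `ℓ`-semistable, `h` a linear form avoiding a finite set of points, `a` large:
then `E|_{aH}` is `ℓ`-semistable of dimension `d - 1`.  The propositions `StmtMin`, `StmtW`, `StmtU`, `StmtC`, `StmtK`
are the geometric inputs, `StmtPn` the result on projective space.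
-/

set_option autoImplicit false
universe u
open CategoryTheory CategoryTheory.Limits AlgebraicGeometry TopologicalSpace Polynomial

namespace K781.Base

open Groth.Agent Groth.Agent.Fga.RegSec Groth.Agent.Fga.PicMon ShStab StabCat K847.Pn K847.GL
  Groth.Agent.FormalA.HHLin

/-- `N ⊗ (N ⊗ ⋯ ⊗ (N ⊗ E))`, `a` factors `N`. -/
noncomputable def iterT {X : Scheme.{u}} (N : X.Modules) : ℕ → X.Modules → X.Modules
  | 0, E => E
  | a + 1, E => CohB1.tensorMod N (iterT N a E)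

/-- `a`-fold multiplication by a section `s` of `N`: `E ⟶ N ⊗ (⋯ ⊗ (N ⊗ E))`. -/
noncomputable def mulI {X : Scheme.{u}} {N : X.Modules} (s : Coh.structureModule X ⟶ N) :
    (a : ℕ) → (E : X.Modules) → (E ⟶ iterT N a E)
  | 0, E => 𝟙 E
  | a + 1, E => mulI s a E ≫ mulS s (iterT N a E)

/-- Regularity: `H^i(E(q)) = 0` for `i ≥ 1` and `q ≥ c - i`. -/
def Reg (k : Type u) [Field k] {n : ℕ} (E : (CohB1.ProjSpace n k).Modules) (c : ℤ) : Prop :=
  ∀ i : ℕ, 1 ≤ i → ∀ q : ℤ, c - i ≤ q → Subsingleton (Coh.HH (CohB1.ProjSpace n k) (tw E q) i)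

/-- `O(-ρ)^b`. -/
noncomputable abbrev fr (k : Type u) [Field k] (n b : ℕ) (ρ : ℤ) : (CohB1.ProjSpace n k).Modules :=
  tw (FlatMod.freeMod (CohB1.ProjSpace n k) b) (-ρ)

/-- `h⁰(F(t))`. -/
noncomputable abbrev h0 (k : Type u) [Field k] {n : ℕ} (F : (CohB1.ProjSpace n k).Modules) (t : ℤ) : ℕ :=
  Module.finrank k (Coh.HH (CohB1.ProjSpace n k) (tw F t) 0)

/-- The support has dimension at most `e`. -/
def DimLE {n : ℕ} {k : Type u} [Field k] (F : (CohB1.ProjSpace n k).Modules) (e : ℕ) : Prop :=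
  topologicalKrullDim (CohB1.support F) ≤ (e : WithBot ℕ∞)

/-- **Node Min**: slopes of quotients of `O(-ρ)^b` of bounded multiplicity are bounded below. -/
def StmtMin : Prop := ∀ (n b : ℕ), 1 ≤ b → ∀ (ρ : ℤ) (e : ℕ) (a₀ : ℚ), ∃ μ : ℚ,
  ∀ (k : Type u) [Field k] [Infinite k] (G : (CohB1.ProjSpace n k).Modules) (q : fr k n b ρ ⟶ G),
    Coh.IsCoh G → Epi q → DimLE G (e + 1) → ∀ P : ℚ[X], HP k G P → alpha (e + 1) P ≤ a₀ →
      μ * alpha (e + 1) P ≤ alpha e P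

/-- **Node W**: a lower bound for the number of sections of quotients of a regular module. -/
def StmtW : Prop := ∀ (k : Type u) [Field k] [Infinite k] (n g : ℕ) (c : ℤ)
    (E R : (CohB1.ProjSpace n k).Modules) (π : E ⟶ R), Coh.IsCoh E → Coh.IsCoh R → Epi π → DimLE E g →
    Reg k E c → ∀ P : ℚ[X], HP k R P → ∀ m : ℤ, c ≤ m →
      alpha g P * (((m - c + g).toNat.choose g : ℕ) : ℚ) ≤
        (Module.finrank k (LinearMap.range (HHmap k (twm π m) 0)) : ℚ)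

/-- **Node U**: an upper bound for the number of sections of a pure module `T` of dimension `g + 1`, of bounded
multiplicity and slope, containing a quotient `T₀` of `O(-ρ)^b` with the same multiplicity. -/
def StmtU : Prop := ∀ (n b : ℕ), 1 ≤ b → ∀ (ρ : ℤ) (g : ℕ) (a₀ c₀ : ℚ), ∃ c₁ : ℕ,
  ∀ (k : Type u) [Field k] [Infinite k] (T₀ T : (CohB1.ProjSpace n k).Modules) (q : fr k n b ρ ⟶ T₀) (j : T₀ ⟶ T),
    Coh.IsCoh T₀ → Coh.IsCoh T → Epi q → Mono j → IsPure (CohB1.ProjSpace n k) T (g + 1) →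
    ∀ P₀ P : ℚ[X], HP k T₀ P₀ → HP k T P → P₀.coeff (g + 1) = P.coeff (g + 1) →
      alpha (g + 1) P ≤ a₀ → alpha g P ≤ c₀ → ∀ t : ℤ,
        (h0 k T t : ℚ) ≤ alpha (g + 1) P * (((t + c₁ + ((g + 1 : ℕ) : ℤ)).toNat.choose (g + 1) : ℕ) : ℚ)

/-- **Node C**: the torsion of dimension `≤ c ≤ d - 2` of `R / R(-j)`, `R` pure of dimension `d` in a bounded family,
has multiplicity bounded independently of `j`. -/
def StmtC : Prop := ∀ (n b : ℕ), 1 ≤ b → ∀ (ρ : ℤ) (c d : ℕ), c + 2 ≤ d → ∀ 𝒮 : Set ℚ[X], 𝒮.Finite → ∃ C : ℚ,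
  ∀ (k : Type u) [Field k] [Infinite k] (R R' Q τ : (CohB1.ProjSpace n k).Modules) (q : fr k n b ρ ⟶ R)
    (ι : R' ⟶ R) (π : R ⟶ Q) (w : ι ≫ π = 0) (κ : τ ⟶ Q) (j : ℕ), Coh.IsCoh R → Epi q →
    IsPure (CohB1.ProjSpace n k) R d → ∀ P ∈ 𝒮, HP k R P → 1 ≤ j → Nonempty (R' ≅ tw R (-(j : ℤ))) →
    (ShortComplex.mk ι π w).ShortExact → Coh.IsCoh τ → Mono κ → DimLE τ c → ∀ Pτ : ℚ[X], HP k τ Pτ →
      alpha c Pτ ≤ C

/-- **Node K**: a quotient `V` of `E` with few sections (at most `s·C(m + c₁ + d, d)`) kills a subsheaf `Kg` of `E`,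
whose saturation `K` has `rank (E/K) ≤ s`, with everything bounded independently of `V`. -/
def StmtK : Prop := ∀ (k : Type u) [Field k] [Infinite k] (n e : ℕ) (E : (CohB1.ProjSpace n k).Modules),
  Coh.IsCoh E → IsPure (CohB1.ProjSpace n k) E (e + 1) → ∀ PE : ℚ[X], HP k E PE → ∀ c₁ : ℕ,
  ∃ (C : ℚ) (𝒮 : Set ℚ[X]), 𝒮.Finite ∧ ∀ s : ℕ, (s : ℚ) ≤ alpha (e + 1) PE →
    ∀ (V : (CohB1.ProjSpace n k).Modules) (π : E ⟶ V), Coh.IsCoh V → Epi π →
    (∀ m : ℤ, (h0 k V m : ℚ) ≤ s * (((m + c₁ + ((e + 1 : ℕ) : ℤ)).toNat.choose (e + 1) : ℕ) : ℚ)) →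
    ∃ (Kg K : (CohB1.ProjSpace n k).Modules) (i : Kg ⟶ K) (j : K ⟶ E), Mono i ∧ Mono j ∧ Coh.IsCoh Kg ∧
      Coh.IsCoh K ∧ (i ≫ j) ≫ π = 0 ∧ IsPure (CohB1.ProjSpace n k) (cokernel j) (e + 1) ∧
      ∀ PK PKg : ℚ[X], HP k K PK → HP k Kg PKg → (PK - PKg).natDegree ≤ e ∧ alpha e (PK - PKg) ≤ C ∧
        alpha (e + 1) (PE - PK) ≤ s ∧ PE - PK ∈ 𝒮

/-- **The restriction theorem on projective space.** -/
def StmtPn : Prop := ∀ (k : Type u) [Field k] [Infinite k] (n d ℓ : ℕ), 1 ≤ ℓ → ℓ < d →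
  ∀ E : (CohB1.ProjSpace n k).Modules, IsEllSemistable k (CohB1.ProjSpace n k) (O k n 1) E d ℓ →
  ∃ B : Set (CohB1.ProjSpace n k), B.Finite ∧ ∃ a₀ : ℕ, ∀ a : ℕ, a₀ ≤ a →
    ∀ h : Coh.structureModule (CohB1.ProjSpace n k) ⟶ O k n 1, B ⊆ CohB1.genLocus (O k n 1) h →
      IsEllSemistable k (CohB1.ProjSpace n k) (O k n 1) (cokernel (mulI h a E)) (d - 1) ℓ

end K781.Base
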