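import Groth.Agent.ShStab.K781.Poly
import Groth.Agent.ShStab.K847.HilbBasic

/-!
# Comparison of truncated polynomials: restriction to a hypersurface section (namespace `K781.Poly`)
-/

set_option autoImplicit false

open Polynomial StabCat

namespace K781.Poly

open K849.TopPart K847.PolyOrd K781.Base

theorem alpha_diff {P : ℚ[X]} {d : ℕ} (hP : P.natDegree ≤ d + 1) (a : ℚ) :
    alpha d (P.comp (X + C a) - P) = a * alpha (d + 1) P := by
  unfold alpha
  rw [K847.HilbBasic.coeff_comp_sub hP, Nat.factorial_succ]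
  push_cast
  ring

theorem stmtPoly1 : StmtPoly1 := by
  intro d ℓ hℓ P Q hP hQ a h
  unfold RedEq at h ⊢
  rw [alpha_topPart, alpha_topPart, ← topPart_smul, ← topPart_smul] at h ⊢
  rw [alpha_diff hP, alpha_diff hQ]
  set R := alpha (d + 1) P • Q - alpha (d + 1) Q • P with hR
  have hRd : R.natDegree ≤ d + 1 :=
    (natDegree_sub_le _ _).trans (max_le ((natDegree_smul_le _ _).trans hQ) ((natDegree_smul_le _ _).trans hP))
  have hRn : ∀ n, d - ℓ < n → R.coeff n = 0 := by
    intro n hn
    rcases Nat.lt_or_ge (d + 1) n with h1 | h1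
    · exact coeff_eq_zero_of_natDegree_lt (lt_of_le_of_lt hRd h1)
    · have h2 := congrArg (fun S => S.coeff n) h
      simp only [coeff_topPart] at h2
      rw [if_pos ⟨by omega, h1⟩, if_pos ⟨by omega, h1⟩] at h2
      rw [hR, coeff_sub, ← h2, sub_self]
  have hRdeg : R.natDegree ≤ d - ℓ := by
    rw [natDegree_le_iff_coeff_eq_zero]
    exact hRn
  have key : (a * alpha (d + 1) P) • (Q.comp (X + C (a : ℚ)) - Q) - (a * alpha (d + 1) Q) • (P.comp (X + C (a : ℚ)) - P) =
      (a : ℚ) • (R.comp (X + C (a : ℚ)) - R) := by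
    rw [hR, sub_comp, smul_comp, smul_comp, mul_smul, mul_smul, ← smul_sub]
    congr 1
    rw [smul_sub, smul_sub]
    ring
  rw [← sub_eq_zero, ← neg_eq_zero, neg_sub, ← topPart_sub, key]
  ext n
  rw [coeff_topPart, coeff_zero]
  split_ifs with h1
  · rw [coeff_smul, K847.HilbBasic.coeff_comp_sub (by omega), hRn (n + 1) (by omega), mul_zero, smul_zero]
  · rfl

end K781.Poly
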