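import Groth.Agent.ShStab.K781.Base

/-!
# Restriction theorems: the statements of the remaining steps (namespace `K781.Base`)
-/

set_option autoImplicit false
universe u
open CategoryTheory CategoryTheory.Limits AlgebraicGeometry TopologicalSpace Polynomial

namespace K781.Base

open Groth.Agent Groth.Agent.Fga.RegSec Groth.Agent.Fga.PicMon ShStab StabCat K847.Pn K847.GL
  Groth.Agent.FormalA.HHLin

/-- The piece `S j / S (j + 1)` of a decreasing chain. -/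
noncomputable abbrev pc {k : Type u} [Field k] {n : ℕ} {E : (CohB1.ProjSpace n k).Modules} (S : ℕ → Subobject E)
    (hS : ∀ j, S (j + 1) ≤ S j) (j : ℕ) : (CohB1.ProjSpace n k).Modules :=
  cokernel (Subobject.ofLE (S (j + 1)) (S j) (hS j))

/-- **Node Filt**: a decreasing chain `⊤ = S 0 ≥ S 1 ≥ …` whose pieces `D j` satisfy `D j ⟶ D (j + 1)(1)`, `j < N`. -/
def StmtFilt : Prop := ∀ (k : Type u) [Field k] [Infinite k] (n g c₁ N : ℕ) (σ : ℚ), 0 ≤ σ →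
  ∀ (E : (CohB1.ProjSpace n k).Modules), Coh.IsCoh E → ∀ (S : ℕ → Subobject E) (hS : ∀ j, S (j + 1) ≤ S j),
    S 0 = ⊤ → (∀ j, Coh.IsCoh ((S j : Subobject E) : (CohB1.ProjSpace n k).Modules)) →
    (∀ j, j < N → ∃ μ : pc S hS j ⟶ tw (pc S hS (j + 1)) 1, Mono μ) →
    (∃ κ : cokernel (S 1).arrow ⟶ tw (pc S hS N) N, Mono κ) ∧
    ((∀ t : ℤ, (h0 k (tw (pc S hS N) N) t : ℚ) ≤
        σ * (((t + c₁ + ((g + 1 : ℕ) : ℤ)).toNat.choose (g + 1) : ℕ) : ℚ)) →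
      ∀ m : ℤ, (h0 k (cokernel (S (N + 1)).arrow) m : ℚ) ≤
        σ * (((m + c₁ + ((g + 2 : ℕ) : ℤ)).toNat.choose (g + 2) : ℕ) : ℚ))

/-- The restriction theorem for `E`. -/
def RestrAt (k : Type u) [Field k] (n d ℓ : ℕ) (E : (CohB1.ProjSpace n k).Modules) : Prop :=
  ∃ B : Set (CohB1.ProjSpace n k), B.Finite ∧ ∃ a₀ : ℕ, ∀ a : ℕ, a₀ ≤ a →
    ∀ h : Coh.structureModule (CohB1.ProjSpace n k) ⟶ O k n 1, B ⊆ CohB1.genLocus (O k n 1) h →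
      IsEllSemistable k (CohB1.ProjSpace n k) (O k n 1) (cokernel (mulI h a E)) (d - 1) ℓ

/-- The stable case (this is the main theorem, proved from the lattice theory and the geometric nodes). -/
def StmtStab : Prop := ∀ (k : Type u) [Field k] [Infinite k] (n d ℓ : ℕ), 1 ≤ ℓ → ℓ < d →
  ∀ E : (CohB1.ProjSpace n k).Modules, IsEllStable k (CohB1.ProjSpace n k) (O k n 1) E d ℓ →
    (2 ≤ ℓ → RestrAt k n d (ℓ - 1) E) → RestrAt k n d ℓ E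

/-- **Node Ind**: the induction on `ℓ` and on the multiplicity. -/
def StmtInd : Prop := StmtStab.{u} → StmtPn.{u}

/-! ### Polynomials -/

/-- **Node Poly, 1.** -/
def StmtPoly1 : Prop := ∀ (d ℓ : ℕ), ℓ ≤ d → ∀ P Q : ℚ[X], P.natDegree ≤ d + 1 → Q.natDegree ≤ d + 1 →
  ∀ a : ℕ, RedEq (d + 1) (topPart ℓ (d + 1) P) (topPart ℓ (d + 1) Q) →
    RedEq d (topPart ℓ d (P.comp (X + C (a : ℚ)) - P)) (topPart ℓ d (Q.comp (X + C (a : ℚ)) - Q))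

/-- **Node Poly, 2**: the final comparison; `d = e + 1`. -/
def StmtPoly2 : Prop := ∀ (e ℓ : ℕ), 1 ≤ ℓ → ℓ ≤ e → ∀ (PE : ℚ[X]), PE.natDegree ≤ e + 1 →
  0 < alpha (e + 1) PE → ∀ (𝒮 : Set ℚ[X]), 𝒮.Finite → ∀ c : ℚ, ∃ a₀ : ℕ, ∀ a : ℕ, a₀ ≤ a →
  ∀ PK τ : ℚ[X], PE - PK ∈ 𝒮 → PK.natDegree ≤ e + 1 → 0 < alpha (e + 1) PK →
    RedLT (e + 1) (topPart ℓ (e + 1) PK) (topPart ℓ (e + 1) PE) →
    0 ≤ τ.leadingCoeff → τ.natDegree ≤ e - 1 → (∀ i : ℕ, i + 1 ≤ e → τ.natDegree ≤ i → alpha i τ ≤ c) →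
    (2 ≤ ℓ → RedLE e (topPart (ℓ - 1) e (PK - PK.comp (X - C (a : ℚ)) + τ))
      (topPart (ℓ - 1) e (PE - PE.comp (X - C (a : ℚ))))) →
    RedLE e (topPart ℓ e (PK - PK.comp (X - C (a : ℚ)) + τ)) (topPart ℓ e (PE - PE.comp (X - C (a : ℚ))))

/-- **Node Poly, 3.** -/
def StmtPoly3 : Prop := ∀ (g : ℕ) (P Q : ℚ[X]),
  RedLE (g + 1) (topPart 1 (g + 1) P) (topPart 1 (g + 1) Q) ↔
    alpha (g + 1) Q * alpha g P ≤ alpha (g + 1) P * alpha g Q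

/-- **Node Poly, 4.** -/
def StmtPoly4 : Prop := ∀ (e ℓ ℓ' : ℕ), ℓ' ≤ ℓ → ∀ P Q : ℚ[X],
  RedLE e (topPart ℓ e P) (topPart ℓ e Q) → RedLE e (topPart ℓ' e P) (topPart ℓ' e Q)

/-- **Node Poly, 5.** -/
def StmtPoly5 : Prop := ∀ (g ℓ : ℕ), 1 ≤ ℓ → ∀ P Q : ℚ[X],
  ¬ RedLE (g + 1) (topPart ℓ (g + 1) P) (topPart ℓ (g + 1) Q) →
    alpha (g + 1) P * alpha g Q ≤ alpha (g + 1) Q * alpha g P

/-- **Node Poly, 6.** -/
def StmtPoly6 : Prop := ∀ (e ℓ : ℕ) (P P' Q : ℚ[X]), P.natDegree ≤ e → P'.natDegree ≤ e → PolyLE P P' →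
  alpha e P' = alpha e P → 0 ≤ alpha e Q → RedLE e (topPart ℓ e P') (topPart ℓ e Q) →
    RedLE e (topPart ℓ e P) (topPart ℓ e Q)

end K781.Base
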