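import Groth.Agent.ShStab.K781.Lat3

/-!
# A destabilizing element comes from `⊤` (namespace `K781.Lat4`)

`K` is `r`-saturated, `SK j = sat (K + h^j ⊤)`.  If `F ≥ h^a ⊤` maximises `δ - (M - a/2) m`, `F ≤ Sn` for `Sn ⊇ Kg`
with `K / Kg` bounded, then `F = SK a` for `a` large.
-/

set_option autoImplicit false
set_option linter.unusedSectionVars false

namespace K781.Lat4

open K781.Lat K781.Lat2 K781.Lat3

variable {L : Type*} [Lattice L] [BoundedOrder L] [IsModularLattice L] [WellFoundedGT L] {r m δ : L → ℚ}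
  {h : L → L} (N : Num r m δ h)

/-- Saturation with respect to `r`. -/
def RSat (_N : Num r m δ h) (K : L) : Prop := ∀ B, K ≤ B → r B = r K → B = K

/-- `sat (K + h^j ⊤)`. -/
noncomputable def SK (N : Num r m δ h) (K : L) (j : ℕ) : L := N.sat (K ⊔ h^[j] ⊤)

variable {K : L} (hK : RSat N K)

include hK

theorem le_of_h_le {B : L} (hB : h B ≤ K) : B ≤ K := by
  have h1 : h (B ⊔ K) ≤ K := by rw [N.h_sup]; exact sup_le hB (N.h_le K)
  have h2 : r (B ⊔ K) = r K := by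
    apply le_antisymm
    · rw [← N.r_h (B ⊔ K)]; exact N.r_mono h1
    · exact N.r_mono le_sup_right
  have h3 := hK (B ⊔ K) le_sup_right h2
  exact le_sup_left.trans h3.le

theorem le_of_hp_le (i : ℕ) {B : L} (hB : h^[i] B ≤ K) : B ≤ K := by
  induction i with
  | zero => exact hB
  | succ i ih =>
    rw [Function.iterate_succ_apply'] at hB
    exact ih (le_of_h_le N hK hB)

theorem inf_hp (i : ℕ) {B : L} (hB : K ≤ B) : K ⊓ h^[i] B = h^[i] K := by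
  apply le_antisymm
  · obtain ⟨C, hC⟩ := N.hp_surj i (B := K ⊓ h^[i] B) (inf_le_right.trans (N.hp_mono i le_top))
    rw [← hC]
    exact N.hp_mono i (le_of_hp_le N hK i (hC ▸ inf_le_left))
  · exact le_inf (N.hp_le i K) (N.hp_mono i hB)

theorem r_K_hp (i : ℕ) {B : L} (hB : K ≤ B) : r (K ⊔ h^[i] B) = r B := by
  have h1 := N.r_mod K (h^[i] B)
  rw [inf_hp N hK i hB, N.r_hp, N.r_hp] at h1
  linarith

theorem m_K_hp (i : ℕ) {B : L} (hB : K ≤ B) : m (K ⊔ h^[i] B) = m B - i * (r B - r K) := by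
  have h1 := N.m_mod K (h^[i] B)
  rw [inf_hp N hK i hB, N.m_hp, N.m_hp] at h1
  linarith

theorem δ_K_hp (i : ℕ) {B : L} (hB : K ≤ B) :
    δ (K ⊔ h^[i] B) = δ B - i * (m B - m K) + (i : ℚ) ^ 2 / 2 * (r B - r K) := by
  have h1 := N.δ_mod K (h^[i] B)
  rw [inf_hp N hK i hB, N.δ_hp, N.δ_hp] at h1
  linarith

omit hK in
theorem r_SK (j : ℕ) : r (SK N K j) = r ⊤ := N.r_of_top (i := j) (le_sup_right.trans (N.le_sat _))

omit hK in
theorem K_le_SK (j : ℕ) : K ≤ SK N K j := le_sup_left.trans (N.le_sat _)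

omit hK in
theorem hp_le_SK (j : ℕ) : h^[j] ⊤ ≤ SK N K j := le_sup_right.trans (N.le_sat _)

omit hK in
theorem SK_anti {i j : ℕ} (hij : i ≤ j) : SK N K j ≤ SK N K i :=
  N.sat_mono (sup_le_sup_left (N.hp_anti hij ⊤) _)

theorem m_SK (j : ℕ) : m (SK N K j) = m ⊤ - j * (r ⊤ - r K) := by
  unfold SK
  rw [N.m_sat, m_K_hp N hK j le_top]

omit hK in
theorem h_SK_le (j : ℕ) : h (SK N K j) ≤ SK N K j := N.h_le _

/-- The colon of `SK n`. -/
theorem le_SK_of_hp_le {c n : ℕ} (hcn : c ≤ n) {B : L} (hB : h^[c] B ≤ SK N K n) : B ≤ SK N K (n - c) := by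
  have h0 : h^[n] (⊤ : L) = h^[c] (h^[n - c] ⊤) := by
    rw [← Function.iterate_add_apply]
    congr 2
    omega
  have hKB : K ≤ B ⊔ (K ⊔ h^[n - c] ⊤) := le_sup_left.trans le_sup_right
  have h1 : K ⊔ h^[n] ⊤ ≤ K ⊔ h^[c] (B ⊔ (K ⊔ h^[n - c] ⊤)) := by
    rw [h0]
    exact sup_le_sup_left (N.hp_mono c (le_sup_right.trans le_sup_right)) _
  have h2 : K ⊔ h^[c] (B ⊔ (K ⊔ h^[n - c] ⊤)) ≤ SK N K n := by
    refine sup_le (K_le_SK N n) ?_
    rw [N.hp_sup, N.hp_sup, ← h0]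
    exact sup_le hB (sup_le ((N.hp_le c K).trans (K_le_SK N n)) (hp_le_SK N n))
  have h3 := N.m_of_between h1 h2
  have hr : r (B ⊔ (K ⊔ h^[n - c] ⊤)) = r ⊤ := N.r_of_top (i := n - c) (le_sup_right.trans le_sup_right)
  rw [m_K_hp N hK c hKB, m_K_hp N hK n le_top, hr] at h3
  refine le_sup_left.trans (N.sat_max (B := B ⊔ (K ⊔ h^[n - c] ⊤)) le_sup_right ?_ ?_)
  · rw [hr]
    exact (N.r_of_top (i := n - c) le_sup_right).symm
  · rw [m_K_hp N hK (n - c) le_top, Nat.cast_sub hcn]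
    linarith

/-- The rank of `⊤ / K`. -/
theorem rank_eq {Kg Sn : L} {s n : ℕ} {C : ℚ} (hKg : Kg ≤ K) (hrK : r Kg = r K) (hC : m K - m Kg ≤ C)
    (hKS : Kg ≤ Sn) (hn : h^[n] ⊤ ≤ Sn) (hm : m Sn = m ⊤ - n * s) (hCn : C < n) (hs' : r ⊤ - r K ≤ s) :
    r ⊤ - r K = s ∧ m (Sn ⊔ K) ≤ m ⊤ - n * s + C := by
  have h1 : r (Sn ⊓ K) = r K := N.r_sandwich (le_inf hKS hKg) inf_le_right hrK
  have h2 : m Kg ≤ m (Sn ⊓ K) := N.m_mono (le_inf hKS hKg) (hrK.trans h1.symm)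
  have h3 := N.m_mod Sn K
  have h4 : m (Sn ⊔ K) ≤ m ⊤ - n * s + C := by linarith
  refine ⟨le_antisymm hs' ?_, h4⟩
  have h5 : m (K ⊔ h^[n] ⊤) ≤ m (Sn ⊔ K) :=
    N.m_mono (sup_le le_sup_right (hn.trans le_sup_left))
      ((N.r_of_top (i := n) le_sup_right).trans (N.r_of_top (i := n) (hn.trans le_sup_left)).symm)
  rw [m_K_hp N hK n le_top] at h5
  obtain ⟨z, hz⟩ := N.r_int ⊤
  obtain ⟨z', hz'⟩ := N.r_int K
  have h6 : (n : ℚ) * (s - (r ⊤ - r K)) ≤ C := by linarith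
  by_contra hcon
  rw [not_le, hz, hz'] at hcon
  rw [hz, hz'] at h6
  have h7 : (z - z' : ℤ) < s := by exact_mod_cast hcon
  have h8 : (1 : ℤ) ≤ s - (z - z') := by omega
  have h9 : (1 : ℚ) ≤ s - (z - z') := by exact_mod_cast h8
  have hn0 : (0 : ℚ) ≤ n := by positivity
  have h10 := mul_le_mul_of_nonneg_left h9 hn0
  linarith

/-- `F ≤ Sn` implies `F ≤ SK (n - c)`. -/
theorem le_SK_of_le {F Sn : L} {s n c : ℕ} {C : ℚ} (hF : F ≤ Sn) (hn : h^[n] ⊤ ≤ Sn) (hs : r ⊤ - r K = s)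
    (hm : m (Sn ⊔ K) ≤ m ⊤ - n * s + C) (hc : C < c + 1) (hcn : c ≤ n) : F ≤ SK N K (n - c) := by
  apply le_SK_of_hp_le N hK hcn
  refine N.nilp (G := K ⊔ h^[n] ⊤) (N.h_le _) (n := n) ((N.hp_mono n le_top).trans le_sup_right) ?_
  have h1 : m ((K ⊔ h^[n] ⊤) ⊔ F) ≤ m (Sn ⊔ K) :=
    N.m_mono (sup_le (sup_le le_sup_right (hn.trans le_sup_left)) (hF.trans le_sup_left))
      ((N.r_of_top (i := n) (le_sup_right.trans le_sup_left)).trans
        (N.r_of_top (i := n) (hn.trans le_sup_left)).symm)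
  rw [m_K_hp N hK n le_top, hs]
  linarith

section bounds

variable {μ M R C₄ C₅ : ℚ} {a s : ℕ} {F : L} (hμ : ∀ A, h ⊤ ≤ A → μ * (m ⊤ - m A) ≤ δ ⊤ - δ A)
  (hs : r ⊤ - r K = s) (hF : h^[a] ⊤ ≤ F)
  (hθ : ∀ G, h^[a] ⊤ ≤ G → δ G - (M - a / 2) * m G ≤ δ F - (M - a / 2) * m F)
  (hC4 : ∀ j, δ (SK N K j) - δ (K ⊔ h^[j] ⊤) ≤ C₄)

include hs

theorem w_K (t : ℕ) : N.w K ⊤ t = s := by
  unfold Num.w
  rw [m_K_hp N hK t le_top, m_K_hp N hK (t + 1) le_top, hs]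
  push_cast
  ring

theorem m_SK_sup {t : ℕ} (ht : t ≤ a) : m (SK N K a ⊔ h^[t] ⊤) = m ⊤ - t * s := by
  have h1 : K ⊔ h^[t] ⊤ ≤ SK N K a ⊔ h^[t] ⊤ := sup_le_sup_right (K_le_SK N a) _
  have h2 : SK N K a ⊔ h^[t] ⊤ ≤ SK N K t := sup_le (SK_anti N ht) (hp_le_SK N t)
  rw [N.m_of_between h1 h2, m_K_hp N hK t le_top, hs]

theorem w_SK {t : ℕ} (ht : t < a) : N.w (SK N K a) ⊤ t = s := by
  unfold Num.w
  rw [m_SK_sup N hK hs ht.le, m_SK_sup N hK hs ht]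
  push_cast
  ring

include hμ hF hθ hC4

/-- The main inequality. -/
theorem ineq {n : ℕ} (hn : n ≤ a) (hFn : F ≤ SK N K n) :
    ((n : ℚ) - a / 2 + M - μ) * (m (SK N K a ⊔ F) - m (SK N K a)) ≤
      C₄ + (a - n) * ((m ⊤ - m K) - s / 2 - μ * s) := by
  obtain ⟨i, rfl⟩ := Nat.exists_eq_add_of_le hn
  set Y := SK N K (n + i) ⊔ F with hY
  set A := N.col n Y with hA
  set Z := Y ⊔ h^[n] ⊤ with hZ
  have hiA : h^[i] ⊤ ≤ A := by
    rw [hA, N.le_col_iff, ← Function.iterate_add_apply]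
    exact hF.trans le_sup_right
  have hKA : K ≤ A := by
    rw [hA, N.le_col_iff]
    exact (N.hp_le n K).trans ((K_le_SK N (n + i)).trans le_sup_left)
  have hrA : r A = r ⊤ := N.r_of_top hiA
  -- `Z`
  have hZ1 : K ⊔ h^[n] ⊤ ≤ Z := sup_le_sup_right ((K_le_SK N (n + i)).trans le_sup_left) _
  have hZ2 : Z ≤ SK N K n := sup_le (sup_le (SK_anti N hn) hFn) (hp_le_SK N n)
  have hmZ : m Z = m ⊤ - n * s := by rw [N.m_of_between hZ1 hZ2, m_K_hp N hK n le_top, hs]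
  have hδZ : δ Z ≤ δ (SK N K n) :=
    N.δ_mono hZ2 (N.r_of_between hZ1 hZ2 |>.trans (N.r_sat _).symm) (N.m_of_between hZ1 hZ2 |>.trans (N.m_sat _).symm)
  have hδn := hC4 n
  -- `Y`
  have hcol : h^[n] A = Y ⊓ h^[n] ⊤ := N.hp_col n Y
  have e1 := N.m_mod Y (h^[n] ⊤)
  rw [← hcol, N.m_hp, N.m_hp, hrA] at e1
  have e2 := N.δ_mod Y (h^[n] ⊤)
  rw [← hcol, N.δ_hp, N.δ_hp, hrA] at e2
  -- lower bound for `A`
  have e3 := N.sum_lower hμ A (Nat.zero_le i)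
  have e4 := N.sum_w A ⊤ i
  have hAi : A ⊔ h^[i] ⊤ = A := sup_eq_left.mpr hiA
  rw [Function.iterate_zero, id, sup_top_eq, hAi, ← Finset.range_eq_Ico] at e3
  rw [sup_top_eq, hAi] at e4
  have e5 : ∑ t ∈ Finset.range i, (μ - t) * N.w A ⊤ t ≥ μ * (m ⊤ - m A) - s * (i * (i - 1) / 2) := by
    have e6 : ∑ t ∈ Finset.range i, (μ - t) * N.w A ⊤ t =
        μ * ∑ t ∈ Finset.range i, N.w A ⊤ t - ∑ t ∈ Finset.range i, (t : ℚ) * N.w A ⊤ t := by
      rw [Finset.mul_sum, ← Finset.sum_sub_distrib]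
      refine Finset.sum_congr rfl fun t _ => by ring
    have e7 : ∑ t ∈ Finset.range i, (t : ℚ) * N.w A ⊤ t ≤ ∑ t ∈ Finset.range i, (t : ℚ) * s := by
      refine Finset.sum_le_sum fun t _ => mul_le_mul_of_nonneg_left ?_ (by positivity)
      exact (N.w_anti_left hKA ⊤ t).trans (w_K N hK hs t).le
    rw [← Finset.sum_mul, sum_range_id_rat] at e7
    rw [e6, e4]
    linarith
  -- the maximality
  have e8 := hθ (SK N K (n + i) ⊓ F) (le_inf (hp_le_SK N (n + i)) hF)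
  have e9 := N.m_mod (SK N K (n + i)) F
  have e10 := N.δ_mod (SK N K (n + i)) F
  have e11 := N.δ_le_sat (K ⊔ h^[n + i] ⊤)
  have e12 : N.sat (K ⊔ h^[n + i] ⊤) = SK N K (n + i) := rfl
  rw [e12, δ_K_hp N hK (n + i) le_top, hs] at e11
  rw [δ_K_hp N hK n le_top, hs] at hδn
  have e13 := m_SK N hK (n + i)
  rw [hs] at e13
  rw [← hY] at e9 e10
  rw [← hZ] at e1 e2
  push_cast at e8 e11 e13 ⊢
  have hΦ : m Y - m (SK N K (n + i)) = i * s - (m ⊤ - m A) := by linarith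
  have hθ' : (M - ((n : ℚ) + i) / 2) * (m Y - m (SK N K (n + i))) ≤ δ Y - δ (SK N K (n + i)) := by
    have e14 : m Y - m (SK N K (n + i)) = m F - m (SK N K (n + i) ⊓ F) := by linarith
    have e15 : δ Y - δ (SK N K (n + i)) = δ F - δ (SK N K (n + i) ⊓ F) := by linarith
    rw [e14, e15]
    linarith
  have hYup : δ Y - δ (SK N K (n + i)) ≤ C₄ + i * (m ⊤ - m K) - i * s / 2 - μ * (m ⊤ - m A) -
      n * (i * s - (m ⊤ - m A)) := by
    nlinarith [hδZ, hδn, e2, e3, e5, e11]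
  rw [hΦ] at hθ' ⊢
  linarith

end bounds

end K781.Lat4
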