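import Groth.Agent.ShStab.K781.Stab
import Groth.Agent.ShStab.K781.Poly1
import Groth.Agent.ShStab.K162.Poly2
import Groth.Agent.ShStab.K706.Ind
import Groth.Agent.ShStab.K627.NodeFilt
import Groth.Agent.ShStab.K981.NodeW
import Groth.Agent.ShStab.K34.NodeMin
import Groth.Agent.ShStab.K923.NodeC3
import Groth.Agent.ShStab.K34.NodeTrans
import Groth.Agent.ShStab.K774.Pure
import Groth.Agent.ShStab.K846.NodeGeo
import Groth.Agent.ShStab.K923.CC

/-!
# The restriction theorem on projective space (namespace `K781.Main`)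
-/

set_option autoImplicit false
universe u

namespace K781.Main

open K781.Base K781.Inst

theorem stmtK : StmtK.{u} := K774.NodeK.stmtK K981.NodeW.stmtW K34.NodeMin.stmtMin

theorem stmtStab : StmtStab.{u} :=
  K781.Stab.stmtStab K34.NodeTrans.main K774.Pure.stmtPure (K846.NodeGeo.main K627.NodeFilt.main K627.NodeFilt.stmtU stmtK)
    K923.CC.stmtCC K34.NodeMin.stmtMin K162.Poly.stmtPoly2 K781.Poly.stmtPoly3
    K781.Poly.stmtPoly4 K781.Poly.stmtPoly5 K781.Poly.stmtPoly6

/-- **The restriction theorem on projective space.** -/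
theorem stmtPn : StmtPn.{u} := K706.Ind.stmtInd K781.Poly.stmtPoly1 K781.Poly.stmtPoly4 stmtStab

end K781.Main
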