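import Mathlib.CategoryTheory.Subobject.Lattice
import Mathlib.CategoryTheory.Abelian.Basic
import Mathlib.CategoryTheory.Limits.Preserves.Shapes.Kernels

/-!
# Multiplication by a section on subobjects, abstractly (namespace `K781.Cat`)

`Θ` an autoequivalence, `ν : 𝟭 ⟶ Θ`.  For `A ≤ E` the subobject `hsub A` of `E` corresponds to
`A ⟶ E ⟶ Θ E` under `Θ`.
-/

set_option autoImplicit false

universe v u

open CategoryTheory CategoryTheory.Limits

namespace K781.Cat

variable {C : Type u} [Category.{v} C] (Θ : C ≌ C) (ν : 𝟭 C ⟶ Θ.functor)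

/-! ### Images of subobjects under an equivalence -/

theorem mk_eq_mk_iff {E X Y : C} (f : X ⟶ E) (g : Y ⟶ E) [Mono f] [Mono g] :
    Subobject.mk f = Subobject.mk g ↔ ∃ e : X ≅ Y, e.hom ≫ g = f := by
  constructor
  · intro h
    exact ⟨Subobject.isoOfMkEqMk f g h, by simp⟩
  · rintro ⟨e, he⟩
    exact Subobject.mk_eq_mk_of_comm f g e he

theorem mk_map_congr {D : Type*} [Category D] (F : C ⥤ D) {E X Y : C} (f : X ⟶ E) (g : Y ⟶ E) [Mono f] [Mono g]
    [Mono (F.map f)] [Mono (F.map g)] (h : Subobject.mk f = Subobject.mk g) :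
    Subobject.mk (F.map f) = Subobject.mk (F.map g) := by
  obtain ⟨e, he⟩ := (mk_eq_mk_iff f g).mp h
  exact (mk_eq_mk_iff _ _).mpr ⟨F.mapIso e, by rw [Functor.mapIso_hom, ← F.map_comp, he]⟩

theorem mk_comp_congr {E E' X Y : C} (f : X ⟶ E) (g : Y ⟶ E) (p : E ⟶ E') [Mono f] [Mono g] [Mono p]
    (h : Subobject.mk f = Subobject.mk g) : Subobject.mk (f ≫ p) = Subobject.mk (g ≫ p) := by
  obtain ⟨e, he⟩ := (mk_eq_mk_iff f g).mp h
  exact (mk_eq_mk_iff _ _).mpr ⟨e, by rw [← Category.assoc, he]⟩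

variable {E : C} [hE : Mono (ν.app E)]

/-- The inclusion `Θ⁻¹ A ⟶ E`. -/
noncomputable def jm (A : Subobject E) : Θ.inverse.obj (A : C) ⟶ E :=
  Θ.inverse.map (A.arrow ≫ ν.app E) ≫ Θ.unitIso.inv.app E

instance mono_jm (A : Subobject E) : Mono (jm Θ ν A) := by
  have h1 : Mono (A.arrow ≫ ν.app E) := mono_comp _ _
  have h2 : Mono (Θ.inverse.map (A.arrow ≫ ν.app E)) := inferInstance
  exact mono_comp _ _

/-- The subobject `h A`. -/
noncomputable def hsub (A : Subobject E) : Subobject E := Subobject.mk (jm Θ ν A)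

/-- `h A ≅ Θ⁻¹ A`. -/
noncomputable def hsubIso (A : Subobject E) : ((hsub Θ ν A : Subobject E) : C) ≅ Θ.inverse.obj (A : C) :=
  Subobject.underlyingIso _

/-- `Θ (h A) ≅ A`. -/
noncomputable def hsubIso' (A : Subobject E) : Θ.functor.obj ((hsub Θ ν A : Subobject E) : C) ≅ (A : C) :=
  Θ.functor.mapIso (hsubIso Θ ν A) ≪≫ Θ.counitIso.app _

theorem hsub_le (A : Subobject E) : hsub Θ ν A ≤ A := by
  refine Subobject.mk_le_of_comm (Θ.inverse.map (ν.app (A : C)) ≫ Θ.unitIso.inv.app (A : C)) ?_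
  have h1 : A.arrow ≫ ν.app E = ν.app (A : C) ≫ Θ.functor.map A.arrow := ν.naturality A.arrow
  have h2 := Θ.unitIso.inv.naturality A.arrow
  unfold jm
  rw [h1, Functor.map_comp, Category.assoc, Category.assoc]
  congr 1
  exact h2.symm

theorem mk_le_mk_iff {E X Y : C} (f : X ⟶ E) (g : Y ⟶ E) [Mono f] [Mono g] :
    Subobject.mk f ≤ Subobject.mk g ↔ ∃ e : X ⟶ Y, e ≫ g = f :=
  ⟨fun h => ⟨Subobject.ofMkLEMk f g h, Subobject.ofMkLEMk_comp h⟩, fun ⟨e, he⟩ => Subobject.mk_le_mk_of_comm e he⟩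

theorem hsub_le_iff {A B : Subobject E} : hsub Θ ν A ≤ hsub Θ ν B ↔ A ≤ B := by
  constructor
  · intro h
    obtain ⟨f, hf⟩ := (mk_le_mk_iff (jm Θ ν A) (jm Θ ν B)).mp h
    unfold jm at hf
    rw [← Category.assoc] at hf
    have h1 : f ≫ Θ.inverse.map (B.arrow ≫ ν.app E) = Θ.inverse.map (A.arrow ≫ ν.app E) :=
      (cancel_mono (Θ.unitIso.inv.app E)).mp hf
    obtain ⟨g, rfl⟩ := Θ.inverse.map_surjective f
    rw [← Functor.map_comp] at h1
    have h2 := Θ.inverse.map_injective h1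
    rw [← Category.assoc] at h2
    have h3 : g ≫ B.arrow = A.arrow := (cancel_mono (ν.app E)).mp h2
    exact Subobject.le_of_comm g h3
  · intro h
    refine Subobject.mk_le_mk_of_comm (Θ.inverse.map (Subobject.ofLE A B h)) ?_
    unfold jm
    rw [← Category.assoc, ← Functor.map_comp, ← Category.assoc, Subobject.ofLE_arrow]

omit hE in
/-- Under `Θ` the subobject `h A` corresponds to `A ⟶ E ⟶ Θ E`. -/
theorem map_jm (A : Subobject E) :
    Θ.functor.map (jm Θ ν A) = Θ.counitIso.hom.app (A : C) ≫ A.arrow ≫ ν.app E := by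
  unfold jm
  rw [Functor.map_comp]
  have h1 : Θ.functor.map (Θ.unitIso.inv.app E) = Θ.counitIso.hom.app (Θ.functor.obj E) := by
    have := Θ.functor_unitIso_comp E
    rw [← cancel_epi (Θ.functor.map (Θ.unitIso.hom.app E)), this, ← Functor.map_comp]
    simp
  rw [h1]
  exact Θ.counitIso.hom.naturality (A.arrow ≫ ν.app E)

theorem hsub_surj {B : Subobject E} (hB : B ≤ hsub Θ ν ⊤) : ∃ A : Subobject E, hsub Θ ν A = B := by
  have hB' : Subobject.mk B.arrow ≤ Subobject.mk (jm Θ ν ⊤) := by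
    rw [Subobject.mk_arrow]; exact hB
  obtain ⟨f, hf⟩ := (mk_le_mk_iff _ _).mp hB'
  have hfm : Mono f := by
    have : Mono (f ≫ jm Θ ν ⊤) := by rw [hf]; infer_instance
    exact mono_of_mono f (jm Θ ν ⊤)
  have hm1 : Mono (Θ.functor.map f ≫ Θ.counitIso.hom.app _) := mono_comp _ _
  have hm2 : Mono ((Θ.functor.map f ≫ Θ.counitIso.hom.app _) ≫ (⊤ : Subobject E).arrow) := mono_comp _ _
  refine ⟨Subobject.mk ((Θ.functor.map f ≫ Θ.counitIso.hom.app _) ≫ (⊤ : Subobject E).arrow),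
    Eq.trans ?_ (Subobject.mk_arrow B)⟩
  unfold hsub
  let A := Subobject.mk ((Θ.functor.map f ≫ Θ.counitIso.hom.app _) ≫ (⊤ : Subobject E).arrow)
  let e : (A : C) ≅ Θ.functor.obj (B : C) := Subobject.underlyingIso _
  have he : A.arrow = e.hom ≫ ((Θ.functor.map f ≫ Θ.counitIso.hom.app _) ≫ (⊤ : Subobject E).arrow) :=
    (Subobject.underlyingIso_hom_comp_eq_mk _).symm
  refine (mk_eq_mk_iff _ _).mpr ⟨Θ.inverse.mapIso e ≪≫ (Θ.unitIso.app (B : C)).symm, ?_⟩
  apply Θ.functor.map_injective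
  rw [map_jm, Functor.map_comp, ← hf, Functor.map_comp, map_jm]
  change _ = Θ.counitIso.hom.app (A : C) ≫ A.arrow ≫ ν.app E
  rw [he]
  simp only [Iso.trans_hom, Functor.mapIso_hom, Iso.symm_hom, Iso.app_inv, Functor.map_comp, Category.assoc]
  have h1 : Θ.functor.map (Θ.unitIso.inv.app (B : C)) = Θ.counitIso.hom.app (Θ.functor.obj (B : C)) := by
    have := Θ.functor_unitIso_comp (B : C)
    rw [← cancel_epi (Θ.functor.map (Θ.unitIso.hom.app (B : C))), this, ← Functor.map_comp]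
    simp
  rw [h1]
  have h2 := Θ.counitIso.hom.naturality e.hom
  simp only [Functor.comp_map, Functor.id_map] at h2
  rw [← Category.assoc, ← Category.assoc, h2]
  simp only [Category.assoc]

/-- `Θ (h A) ⟶ Θ E` is `A ⟶ E ⟶ Θ E`. -/
theorem mk_map_hsub (A : Subobject E) [Mono (Θ.functor.map (hsub Θ ν A).arrow)] [Mono (A.arrow ≫ ν.app E)] :
    Subobject.mk (Θ.functor.map (hsub Θ ν A).arrow) = Subobject.mk (A.arrow ≫ ν.app E) := by
  refine (mk_eq_mk_iff _ _).mpr ⟨hsubIso' Θ ν A, ?_⟩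
  have h1 : (hsub Θ ν A).arrow = (hsubIso Θ ν A).hom ≫ jm Θ ν A :=
    (Subobject.underlyingIso_hom_comp_eq_mk _).symm
  rw [h1, Functor.map_comp, map_jm]
  simp [hsubIso']

/-! ### Iterates -/

/-- The iterates of a functor. -/
def It (F : C ⥤ C) : ℕ → (C ⥤ C)
  | 0 => 𝟭 C
  | a + 1 => It F a ⋙ F

/-- The iterated multiplication `E ⟶ Θ^a E`. -/
noncomputable def nuI : (a : ℕ) → (G : C) → (G ⟶ (It Θ.functor a).obj G)
  | 0, G => 𝟙 G
  | a + 1, G => nuI a G ≫ ν.app ((It Θ.functor a).obj G)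

instance isEquivalence_It (a : ℕ) : (It Θ.functor a).IsEquivalence := by
  induction a with
  | zero => exact inferInstanceAs (𝟭 C).IsEquivalence
  | succ a ih =>
    change (It Θ.functor a ⋙ Θ.functor).IsEquivalence
    infer_instance

variable (hc : ∀ G, Θ.functor.map (ν.app G) = ν.app (Θ.functor.obj G))

include hc

theorem mono_nu_It (a : ℕ) : Mono (ν.app ((It Θ.functor a).obj E)) := by
  induction a with
  | zero => exact hE
  | succ a ih =>
    change Mono (ν.app (Θ.functor.obj ((It Θ.functor a).obj E)))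
    rw [← hc]
    infer_instance

theorem mono_nuI (a : ℕ) : Mono (nuI Θ ν a E) := by
  induction a with
  | zero => exact inferInstanceAs (Mono (𝟙 E))
  | succ a ih =>
    have := mono_nu_It Θ ν (E := E) hc a
    exact mono_comp (nuI Θ ν a E) (ν.app ((It Θ.functor a).obj E))

theorem exists_iso_It (a : ℕ) (A : Subobject E) : ∃ e : (It Θ.functor a).obj (A : C) ≅
    (It Θ.functor (a + 1)).obj ((hsub Θ ν A : Subobject E) : C),
    e.hom ≫ (It Θ.functor (a + 1)).map (hsub Θ ν A).arrow =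
      (It Θ.functor a).map A.arrow ≫ ν.app ((It Θ.functor a).obj E) := by
  induction a with
  | zero =>
    have hm : Mono (A.arrow ≫ ν.app E) := mono_comp _ _
    have h1 := mk_map_hsub Θ ν A
    obtain ⟨e, he⟩ := (mk_eq_mk_iff _ _).mp h1.symm
    exact ⟨e, he⟩
  | succ a ih =>
    obtain ⟨e, he⟩ := ih
    refine ⟨Θ.functor.mapIso e, ?_⟩
    change Θ.functor.map e.hom ≫ Θ.functor.map ((It Θ.functor (a + 1)).map (hsub Θ ν A).arrow) =
      Θ.functor.map ((It Θ.functor a).map A.arrow) ≫ ν.app (Θ.functor.obj ((It Θ.functor a).obj E))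
    rw [← Functor.map_comp, he, ← hc]
    exact Functor.map_comp _ _ _

theorem exists_iso_nuI (a : ℕ) : ∃ e : E ≅ (It Θ.functor a).obj (((hsub Θ ν)^[a] ⊤ : Subobject E) : C),
    e.hom ≫ (It Θ.functor a).map ((hsub Θ ν)^[a] ⊤ : Subobject E).arrow = nuI Θ ν a E := by
  induction a with
  | zero =>
    refine ⟨(asIso (⊤ : Subobject E).arrow).symm, ?_⟩
    change inv (⊤ : Subobject E).arrow ≫ (⊤ : Subobject E).arrow = 𝟙 E
    simp
  | succ a ih =>
    obtain ⟨e, he⟩ := ih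
    obtain ⟨e', he'⟩ := exists_iso_It Θ ν hc a ((hsub Θ ν)^[a] ⊤ : Subobject E)
    rw [Function.iterate_succ_apply']
    refine ⟨e ≪≫ e', ?_⟩
    have h1 : (e ≪≫ e').hom ≫ (It Θ.functor (a + 1)).map (hsub Θ ν ((hsub Θ ν)^[a] ⊤ : Subobject E)).arrow =
        e.hom ≫ ((It Θ.functor a).map ((hsub Θ ν)^[a] ⊤ : Subobject E).arrow ≫
          ν.app ((It Θ.functor a).obj E)) := by
      rw [Iso.trans_hom, Category.assoc, he']
      rfl
    have h2 : e.hom ≫ ((It Θ.functor a).map ((hsub Θ ν)^[a] ⊤ : Subobject E).arrow ≫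
          ν.app ((It Θ.functor a).obj E)) = nuI Θ ν a E ≫ ν.app ((It Θ.functor a).obj E) := by
      rw [← he]
      exact (Category.assoc _ _ _).symm
    exact h1.trans h2

section abelian

variable [Abelian C]

omit hc hE in
theorem exists_cokernel_iso {X Y Z : C} (f : X ⟶ Y) (g : Z ⟶ Y) (e : X ≅ Z) (h : e.hom ≫ g = f) :
    Nonempty (cokernel f ≅ cokernel g) :=
  ⟨cokernel.mapIso f g e (Iso.refl Y) (by simp [h])⟩

/-- `coker (E ⟶ Θ^a E) ≅ Θ^a (E / h^a E)`. -/
theorem nonempty_iso_cokernel (a : ℕ) : Nonempty (cokernel (nuI Θ ν a E) ≅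
    (It Θ.functor a).obj (cokernel ((hsub Θ ν)^[a] ⊤ : Subobject E).arrow)) := by
  obtain ⟨e, he⟩ := exists_iso_nuI Θ ν (E := E) hc a
  exact ⟨cokernel.mapIso _ _ e (Iso.refl _) (by simp [he]) ≪≫
    (PreservesCokernel.iso (It Θ.functor a) ((hsub Θ ν)^[a] ⊤ : Subobject E).arrow).symm⟩

end abelian

end K781.Cat
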