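import Groth.Agent.ShStab.K781.Cat
import Groth.Agent.ShStab.K846.Lat

/-!
# Quotients of subobjects (namespace `K781.Cat2`)
-/

set_option autoImplicit false

universe v u

open CategoryTheory CategoryTheory.Limits

namespace K781.Cat2

open K781.Cat

variable {C : Type u} [Category.{v} C] [Abelian C] {E : C}

/-- `B / A ⟶ D / C'` for `A ≤ B`, `C' ≤ D`, `A ≤ C'`, `B ≤ D`. -/
noncomputable def qm {A B C' D : Subobject E} (hAB : A ≤ B) (hCD : C' ≤ D) (hAC : A ≤ C') (hBD : B ≤ D) :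
    cokernel (Subobject.ofLE A B hAB) ⟶ cokernel (Subobject.ofLE C' D hCD) :=
  cokernel.map _ _ (Subobject.ofLE A C' hAC) (Subobject.ofLE B D hBD) (by simp)

theorem mono_qm {A B C' D : Subobject E} (hAB : A ≤ B) (hCD : C' ≤ D) (hAC : A ≤ C') (hBD : B ≤ D)
    (h : B ⊓ C' ≤ A) : Mono (qm hAB hCD hAC hBD) := by
  have sq : IsPullback (Subobject.ofLE A B hAB) (Subobject.ofLE A C' hAC) (Subobject.ofLE B D hBD)
      (Subobject.ofLE C' D hCD) := by
    refine ⟨⟨by simp⟩, ⟨PullbackCone.IsLimit.mk _ (fun s => ?_) (fun s => ?_) (fun s => ?_)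
      (fun s m h1 h2 => ?_)⟩⟩
    · refine A.factorThru (s.fst ≫ B.arrow) (Subobject.factors_of_le _ h ?_)
      rw [Subobject.inf_factors]
      refine ⟨Subobject.factors_comp_arrow _, ?_⟩
      have h3 : s.fst ≫ B.arrow = s.snd ≫ C'.arrow := by
        have h4 := s.condition =≫ D.arrow
        simpa using h4
      rw [h3]
      exact Subobject.factors_comp_arrow _
    · rw [← cancel_mono B.arrow]
      simp
    · rw [← cancel_mono C'.arrow]
      have h4 := s.condition =≫ D.arrow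
      simpa using h4
    · rw [← cancel_mono A.arrow]
      have h5 := h1 =≫ B.arrow
      simpa using h5
  exact Abelian.mono_cokernel_map_of_isPullback sq

/-- Third isomorphism. -/
theorem nonempty_third {A B D : Subobject E} (hAB : A ≤ B) (hBD : B ≤ D) :
    Nonempty (cokernel (qm hAB (hAB.trans hBD) le_rfl hBD) ≅ cokernel (Subobject.ofLE B D hBD)) := by
  have hq : cokernel.π (Subobject.ofLE A B hAB) ≫ qm hAB (hAB.trans hBD) le_rfl hBD =
      Subobject.ofLE B D hBD ≫ cokernel.π (Subobject.ofLE A D (hAB.trans hBD)) := by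
    simp [qm]
  let f : cokernel (Subobject.ofLE B D hBD) ⟶ cokernel (qm hAB (hAB.trans hBD) le_rfl hBD) :=
    cokernel.desc _ (cokernel.π (Subobject.ofLE A D (hAB.trans hBD)) ≫ cokernel.π _) (by
      rw [← Category.assoc, ← hq, Category.assoc, cokernel.condition, comp_zero])
  let g0 : cokernel (Subobject.ofLE A D (hAB.trans hBD)) ⟶ cokernel (Subobject.ofLE B D hBD) :=
    cokernel.desc _ (cokernel.π (Subobject.ofLE B D hBD)) (by
      rw [← Subobject.ofLE_comp_ofLE A B D hAB hBD, Category.assoc, cokernel.condition, comp_zero])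
  let g : cokernel (qm hAB (hAB.trans hBD) le_rfl hBD) ⟶ cokernel (Subobject.ofLE B D hBD) :=
    cokernel.desc _ g0 (by
      rw [← cancel_epi (cokernel.π (Subobject.ofLE A B hAB)), ← Category.assoc, hq, Category.assoc,
        cokernel.π_desc, cokernel.condition, comp_zero])
  refine ⟨⟨g, f, ?_, ?_⟩⟩
  · rw [← cancel_epi (cokernel.π (qm hAB (hAB.trans hBD) le_rfl hBD)),
      ← cancel_epi (cokernel.π (Subobject.ofLE A D (hAB.trans hBD)))]
    simp [f, g, g0]
  · rw [← cancel_epi (cokernel.π (Subobject.ofLE B D hBD))]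
    simp [f, g, g0]

/-- `⊤ / A ≅ E / A`. -/
theorem nonempty_top (A : Subobject E) : Nonempty (cokernel (Subobject.ofLE A ⊤ le_top) ≅ cokernel A.arrow) :=
  ⟨cokernel.mapIso _ _ (Iso.refl _) (asIso (⊤ : Subobject E).arrow) (by simp)⟩

section theta

variable (Θ : C ≌ C) (ν : 𝟭 C ⟶ Θ.functor) [hE : Mono (ν.app E)]

/-- `hB / hA ≅ Θ⁻¹ (B / A)`. -/
theorem nonempty_hsub {A B : Subobject E} (hAB : A ≤ B) :
    Nonempty (cokernel (Subobject.ofLE (hsub Θ ν A) (hsub Θ ν B) ((hsub_le_iff Θ ν).mpr hAB)) ≅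
      Θ.inverse.obj (cokernel (Subobject.ofLE A B hAB))) := by
  have h1 : ∀ A : Subobject E, (hsub Θ ν A).arrow = (hsubIso Θ ν A).hom ≫ jm Θ ν A := fun A =>
    (Subobject.underlyingIso_hom_comp_eq_mk _).symm
  have h2 : Θ.inverse.map (Subobject.ofLE A B hAB) ≫ jm Θ ν B = jm Θ ν A := by
    unfold jm
    rw [← Category.assoc, ← Functor.map_comp, ← Category.assoc, Subobject.ofLE_arrow]
  have h3 : Subobject.ofLE (hsub Θ ν A) (hsub Θ ν B) ((hsub_le_iff Θ ν).mpr hAB) ≫ (hsubIso Θ ν B).hom =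
      (hsubIso Θ ν A).hom ≫ Θ.inverse.map (Subobject.ofLE A B hAB) := by
    rw [← cancel_mono (jm Θ ν B), Category.assoc, Category.assoc, h2, ← h1, ← h1, Subobject.ofLE_arrow]
  exact ⟨cokernel.mapIso _ _ (hsubIso Θ ν A) (hsubIso Θ ν B) h3 ≪≫
    (PreservesCokernel.iso Θ.inverse (Subobject.ofLE A B hAB)).symm⟩

/-- The map `B / A ⟶ Θ (D / C')` induced by multiplication. -/
theorem exists_mono_theta {A B C' D : Subobject E} (hAB : A ≤ B) (hCD : C' ≤ D) (hBD : hsub Θ ν B ≤ D)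
    (hAC : hsub Θ ν A ≤ C') (h : hsub Θ ν B ⊓ C' ≤ hsub Θ ν A) :
    ∃ μ : cokernel (Subobject.ofLE A B hAB) ⟶ Θ.functor.obj (cokernel (Subobject.ofLE C' D hCD)), Mono μ := by
  obtain ⟨e⟩ := nonempty_hsub Θ ν hAB
  have hm := mono_qm ((hsub_le_iff Θ ν).mpr hAB) hCD hAC hBD h
  let e' := Θ.functor.mapIso e ≪≫ Θ.counitIso.app _
  have hm' : Mono (Θ.functor.map (qm ((hsub_le_iff Θ ν).mpr hAB) hCD hAC hBD)) := inferInstance
  exact ⟨e'.inv ≫ Θ.functor.map (qm ((hsub_le_iff Θ ν).mpr hAB) hCD hAC hBD), mono_comp _ _⟩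

end theta

end K781.Cat2
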