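import Groth.Agent.ShStab.K781.PStab
import Groth.Agent.ShStab.K781.Cat2
import Groth.Agent.ShStab.K846.CSub
import Groth.Agent.ShStab.K774.NodeK
import Groth.Agent.Coherent.K51.HPDict
import Groth.Agent.Sga2.PnTwHom

/-!
# The lattice of coherent submodules on projective space (namespace `K781.Inst`)

`Th k n : Modules ≌ Modules` is `O(1) ⊗ -`, `nu s : 𝟭 ⟶ O(1) ⊗ -` the multiplication by the linear form `s`.
`hC s : CSub E → CSub E` is the multiplication of coherent submodules of `E` by `s` and `PC A` the Hilbert polynomial.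
`pl`: these satisfy the axioms `PL`.
-/

set_option autoImplicit false
universe u
open CategoryTheory CategoryTheory.Limits AlgebraicGeometry TopologicalSpace Polynomial

namespace K781.Inst

open Groth.Agent Groth.Agent.Fga.RegSec Groth.Agent.Fga.PicMon ShStab StabCat K847.Pn K847.GL
  Groth.Agent.FormalA.HHLin K781.Base K781.Cat K781.Cat2 K781.PLat K846.CSub

variable (k : Type u) [Field k] (n : ℕ)

instance isEquivalence_left : (DCoh.tensorBi.obj (O k n 1)).IsEquivalence := by
  have := K774.KGen.isEquivalence_tw (k := k) (n := n) 1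
  exact Functor.isEquivalence_of_iso (Sga2.PnTwHom.swapNat (O k n 1)).symm

/-- `O(1) ⊗ -`. -/
noncomputable def Th : (CohB1.ProjSpace n k).Modules ≌ (CohB1.ProjSpace n k).Modules :=
  (DCoh.tensorBi.obj (O k n 1)).asEquivalence

variable {k n}

instance isNoetherian_pn : AlgebraicGeometry.IsNoetherian (CohB1.ProjSpace n k) := K774.KGen.isNoetherian_pn k

/-- Multiplication by a linear form. -/
noncomputable def nu (s : Coh.structureModule (CohB1.ProjSpace n k) ⟶ O k n 1) :
    𝟭 (CohB1.ProjSpace n k).Modules ⟶ (Th k n).functor where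
  app G := mulS s G
  naturality G G' φ := (K526.Cut.mulS_nat s φ).symm

theorem nu_app (s : Coh.structureModule (CohB1.ProjSpace n k) ⟶ O k n 1) (G : (CohB1.ProjSpace n k).Modules) :
    (nu s).app G = mulS s G := rfl

theorem Th_obj (G : (CohB1.ProjSpace n k).Modules) : (Th k n).functor.obj G = CohB1.tensorMod (O k n 1) G := rfl

/-- `F ≅ (O(1) ⊗ F)(-1)`. -/
theorem nonempty_untw {F G : (CohB1.ProjSpace n k).Modules} (e : (Th k n).functor.obj F ≅ G) :
    Nonempty (F ≅ tw G (-1)) := by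
  rw [← mc_eq_iff, mc_tw, ← mc_eq e, Th_obj, mc_tensor, mul_right_comm, mc_O_mul, add_neg_cancel, mc_O_zero, one_mul]

section

variable (s : Coh.structureModule (CohB1.ProjSpace n k) ⟶ O k n 1) {E : (CohB1.ProjSpace n k).Modules}
  [hs : Mono ((nu s).app E)]

/-- `h A ≅ A(-1)`. -/
theorem nonempty_hsub_tw (A : Subobject E) :
    Nonempty (((hsub (Th k n) (nu s) A : Subobject E) : (CohB1.ProjSpace n k).Modules) ≅
      tw (A : (CohB1.ProjSpace n k).Modules) (-1)) :=
  nonempty_untw (hsubIso' (Th k n) (nu s) A)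

theorem isCoh_hsub {A : Subobject E} (hA : Coh.IsCoh (A : (CohB1.ProjSpace n k).Modules)) :
    Coh.IsCoh ((hsub (Th k n) (nu s) A : Subobject E) : (CohB1.ProjSpace n k).Modules) :=
  Sga67.CohBasic.isCoh_of_iso (nonempty_hsub_tw s A).some.symm (isCoh_tw hA (-1))

theorem isCoh_of_hsub {A : Subobject E}
    (hA : Coh.IsCoh ((hsub (Th k n) (nu s) A : Subobject E) : (CohB1.ProjSpace n k).Modules)) :
    Coh.IsCoh (A : (CohB1.ProjSpace n k).Modules) := by
  obtain ⟨e⟩ := nonempty_hsub_tw s A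
  obtain ⟨e'⟩ : Nonempty (tw ((hsub (Th k n) (nu s) A : Subobject E) : (CohB1.ProjSpace n k).Modules) 1 ≅
      (A : (CohB1.ProjSpace n k).Modules)) := by
    rw [← mc_eq_iff, mc_tw, mc_eq e, mc_tw, mul_assoc, mc_O_mul, neg_add_cancel, mc_O_zero, mul_one]
  exact Sga67.CohBasic.isCoh_of_iso e' (isCoh_tw hA 1)

/-- Multiplication of coherent submodules by `s`. -/
noncomputable def hC (A : CSub E) : CSub E := ⟨hsub (Th k n) (nu s) A.1, isCoh_hsub s A.2⟩

/-- The Hilbert polynomial of a coherent submodule. -/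
noncomputable def PC (A : CSub E) : ℚ[X] := Coherent.K51.HPDict.hp k n (A.1 : (CohB1.ProjSpace n k).Modules)

omit hs in
theorem HP_PC (A : CSub E) : HP k (A.1 : (CohB1.ProjSpace n k).Modules) (PC A) :=
  Coherent.K51.HPDict.HP_hp A.2

omit hs in
theorem PC_eq {A : CSub E} {F : (CohB1.ProjSpace n k).Modules} (e : F ≅ (A.1 : (CohB1.ProjSpace n k).Modules))
    {P : ℚ[X]} (h : HP k F P) : PC A = P :=
  Coherent.K51.HPDict.hp_eq A.2 (HP_congr k e h)

theorem PC_hC (A : CSub E) : PC (hC s A) = (PC A).comp (X - C 1) := by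
  obtain ⟨e⟩ := nonempty_hsub_tw s A.1
  refine PC_eq (A := hC s A) e.symm ?_
  have h1 := HP_tw k (HP_PC A) (-1)
  have h2 : (X : ℚ[X]) + C (((-1 : ℤ) : ℚ)) = X - C 1 := by
    rw [sub_eq_add_neg, ← C_neg]
    push_cast
    rfl
  rwa [h2] at h1

end

/-! ### Integrality -/

theorem exists_int_poly (D : ℕ) : ∀ P : ℚ[X], P.natDegree ≤ D → (∀ m : ℕ, ∃ z : ℤ, P.eval (m : ℚ) = z) →
    ∃ R : ℤ[X], R.map (Int.castRingHom ℚ) = C (D.factorial : ℚ) * P := by
  induction D with
  | zero =>
    intro P hP hint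
    obtain ⟨z, hz⟩ := hint 0
    refine ⟨C z, ?_⟩
    have h1 : P = C (P.coeff 0) := eq_C_of_natDegree_le_zero hP
    rw [h1] at hz ⊢
    rw [eval_C] at hz
    rw [hz]
    simp
  | succ D ih =>
    intro P hP hint
    choose f hf using hint
    obtain ⟨c, hc⟩ := K849.Inst.exists_int hP f (fun m => (hf m).symm)
    have hfac : ((D + 1).factorial : ℚ) ≠ 0 := by exact_mod_cast Nat.factorial_ne_zero _
    have hmon : (descPochhammer ℚ (D + 1)).Monic := monic_descPochhammer ℚ (D + 1)
    have hdeg : (descPochhammer ℚ (D + 1)).natDegree = D + 1 := descPochhammer_natDegree ℚ (D + 1)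
    set Q : ℚ[X] := P - C (c / (D + 1).factorial : ℚ) * descPochhammer ℚ (D + 1) with hQ
    have hcoeff : P.coeff (D + 1) = c / (D + 1).factorial := by
      rw [eq_div_iff hfac, mul_comm]
      exact hc
    have hQd : Q.natDegree ≤ D := by
      have h1 : Q.natDegree ≤ D + 1 := by
        refine (natDegree_sub_le _ _).trans (max_le hP ?_)
        refine (natDegree_C_mul_le _ _).trans hdeg.le
      rw [natDegree_le_iff_coeff_eq_zero]
      intro N hN
      rcases Nat.lt_or_ge (D + 1) N with h4 | h4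
      · exact coeff_eq_zero_of_natDegree_lt (lt_of_le_of_lt h1 h4)
      · have h5 : N = D + 1 := by omega
        have h6 : (descPochhammer ℚ (D + 1)).coeff (D + 1) = 1 := by
          have := hmon.coeff_natDegree
          rwa [hdeg] at this
        rw [h5, hQ, coeff_sub, coeff_C_mul, h6, hcoeff, mul_one, sub_self]
    obtain ⟨R, hR⟩ := ih Q hQd (fun m => by
      refine ⟨f m - c * (m.choose (D + 1) : ℤ), ?_⟩
      rw [hQ, eval_sub, eval_mul, eval_C, hf m, descPochhammer_eval_eq_descFactorial,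
        Nat.descFactorial_eq_factorial_mul_choose]
      push_cast
      field_simp)
    refine ⟨C ((D + 1 : ℕ) : ℤ) * R + C c * descPochhammer ℤ (D + 1), ?_⟩
    rw [Polynomial.map_add, Polynomial.map_mul, Polynomial.map_mul, hR, descPochhammer_map, map_C, map_C, hQ]
    have e1 : (C (((D + 1).factorial : ℕ) : ℚ) : ℚ[X]) = C (((D + 1 : ℕ) : ℚ)) * C ((D.factorial : ℕ) : ℚ) := by
      rw [← C_mul, Nat.factorial_succ]
      push_cast
      rfl
    have e2 : (C (c : ℚ) : ℚ[X]) = C (((D + 1).factorial : ℕ) : ℚ) * C (c / (D + 1).factorial : ℚ) := by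
      rw [← C_mul]
      congr 1
      field_simp
    have e3 : (C ((Int.castRingHom ℚ) ((D + 1 : ℕ) : ℤ)) : ℚ[X]) = C (((D + 1 : ℕ) : ℚ)) := by simp
    have e4 : (C ((Int.castRingHom ℚ) c) : ℚ[X]) = C (c : ℚ) := by simp
    rw [e3, e4, e2, e1]
    ring

theorem exists_disc {D : ℕ} {P : ℚ[X]} (hP : P.natDegree ≤ D) (hint : ∀ m : ℕ, ∃ z : ℤ, P.eval (m : ℚ) = z) (j : ℕ) :
    ∃ z : ℤ, (D.factorial : ℕ) * alpha j P = z := by
  obtain ⟨R, hR⟩ := exists_int_poly D P hP hint
  refine ⟨(j.factorial : ℤ) * R.coeff j, ?_⟩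
  have h1 : (R.map (Int.castRingHom ℚ)).coeff j = (D.factorial : ℚ) * P.coeff j := by rw [hR, coeff_C_mul]
  rw [coeff_map] at h1
  have h2 : ((R.coeff j : ℤ) : ℚ) = (D.factorial : ℚ) * P.coeff j := h1
  push_cast
  rw [h2]
  unfold alpha
  ring

/-! ### The axioms -/

section pl

variable (s : Coh.structureModule (CohB1.ProjSpace n k) ⟶ O k n 1) {E : (CohB1.ProjSpace n k).Modules}
  [hs : Mono ((nu s).app E)] [hE : Fact (Coh.IsCoh E)]

theorem facts : K849.Inst.HilbFacts k (CohB1.ProjSpace n k) (O k n 1) (Coherent.K51.HPDict.hp k n) :=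
  Coherent.K51.HPDict.facts k n

omit hs in
theorem HP_top : HP k E (PC (⊤ : CSub E)) := by
  have h1 : PC (⊤ : CSub E) = Coherent.K51.HPDict.hp k n E := hp_top facts
  rw [h1]
  exact Coherent.K51.HPDict.HP_hp hE.out

/-- **The axioms hold.** -/
theorem pl {g : ℕ} (hd : DimLE E (g + 2)) : PL (L := CSub E) PC (hC s) g where
  mod A B := hp_sup_inf facts A B
  bot := hp_bot facts
  mono hAB := hp_mono facts hAB
  eq hAB h := eq_of_hp_eq facts hAB h
  deg := K774.NodeK.natDegree_le_of_dimLE k hE.out hd HP_top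
  int hAB hj := alpha_int facts hAB hj
  disc := by
    refine ⟨(g + 2).factorial, Nat.factorial_pos _, fun A => exists_disc ?_ (fun m => ⟨_, (HP_PC A m).symm⟩) g⟩
    exact K774.NodeK.natDegree_le_of_dimLE k A.2 (K774.NodeK.dimLE_of_mono k A.1.arrow hd) (HP_PC A)
  h_le A := hsub_le (Th k n) (nu s) A.1
  h_iff := hsub_le_iff (Th k n) (nu s)
  h_surj {B} hB := by
    obtain ⟨A, hA⟩ := hsub_surj (Th k n) (nu s) (B := B.1) hB
    refine ⟨⟨A, isCoh_of_hsub s (by rw [hA]; exact B.2)⟩, Subtype.ext hA⟩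
  h_P A := PC_hC s A

end pl

end K781.Inst
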