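import Groth.Agent.ShStab.K781.Inst

/-!
# Restriction theorems: the statements about the lattice of coherent submodules (namespace `K781.Inst`)
-/

set_option autoImplicit false
universe u
open CategoryTheory CategoryTheory.Limits AlgebraicGeometry TopologicalSpace Polynomial

namespace K781.Inst

open Groth.Agent Groth.Agent.Fga.RegSec Groth.Agent.Fga.PicMon ShStab StabCat K847.Pn K847.GL
  Groth.Agent.FormalA.HHLin K781.Base K781.Cat K781.Cat2 K781.PLat K846.CSub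

/-- **Node Geo**: from a chain `⊤ = S 0 ≥ S 1 ≥ …` of coherent submodules with multiplication maps
`S j / S (j+1) ⟶ (S (j+1) / S (j+2))(1)` which are injective, `T₀ = E/S 1`, `T = (S N / S (N+1))(N)` pure of dimension
`g + 1`, multiplicity `σ` and bounded slope, `StmtFilt`, `StmtU` and `StmtK` produce `Kg ≤ K`. -/
def StmtGeo : Prop := ∀ (k : Type u) [Field k] [Infinite k] (n g : ℕ) (E : (CohB1.ProjSpace n k).Modules)
  [Fact (Coh.IsCoh E)], IsPure (CohB1.ProjSpace n k) E (g + 2) → ∀ c₀ : ℚ,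
  ∃ (C : ℚ) (𝒮 : Set ℚ[X]), 𝒮.Finite ∧
    ∀ (s : Coh.structureModule (CohB1.ProjSpace n k) ⟶ O k n 1) [Mono ((nu s).app E)] (S : ℕ → CSub E) (N σ : ℕ),
      S 0 = ⊤ → (∀ j, S (j + 1) ≤ S j) → (∀ j, hC s (S j) ≤ S (j + 1)) →
      (∀ j, j < N → S (j + 2) ⊓ hC s (S j) ≤ hC s (S (j + 1))) →
      (∀ j, alpha (g + 2) (PC (S j)) = alpha (g + 2) (PC (⊤ : CSub E))) →
      (∀ j, j ≤ N + 1 → alpha (g + 1) (PC (S j)) = alpha (g + 1) (PC (⊤ : CSub E)) - j * σ) →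
      (∀ B, S (N + 1) ≤ B → alpha (g + 1) (PC B) = alpha (g + 1) (PC (S (N + 1))) → B ≤ S (N + 1)) →
      (σ : ℚ) ≤ alpha (g + 2) (PC (⊤ : CSub E)) →
      alpha g (PC (S N)) - alpha g (PC (S (N + 1))) + N * σ ≤ c₀ →
      ∃ K Kg : CSub E, Kg ≤ K ∧ Kg ≤ S (N + 1) ∧
        (∀ B, K ≤ B → alpha (g + 2) (PC B) = alpha (g + 2) (PC K) → B ≤ K) ∧
        alpha (g + 2) (PC (⊤ : CSub E)) - alpha (g + 2) (PC K) ≤ σ ∧
        alpha (g + 2) (PC Kg) = alpha (g + 2) (PC K) ∧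
        alpha (g + 1) (PC K) - alpha (g + 1) (PC Kg) ≤ C ∧ PC (⊤ : CSub E) - PC K ∈ 𝒮

/-- **Node CC**: the torsion of `E / (K + h^j E)`, from `StmtC`. -/
def StmtCC : Prop := ∀ (k : Type u) [Field k] [Infinite k] (n g : ℕ) (E : (CohB1.ProjSpace n k).Modules)
  [Fact (Coh.IsCoh E)], DimLE E (g + 2) → ∀ 𝒮 : Set ℚ[X], 𝒮.Finite → ∃ C : ℚ, 0 ≤ C ∧
    ∀ (s : Coh.structureModule (CohB1.ProjSpace n k) ⟶ O k n 1) [Mono ((nu s).app E)] (K : CSub E),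
      (∀ B, K ≤ B → alpha (g + 2) (PC B) = alpha (g + 2) (PC K) → B ≤ K) → PC (⊤ : CSub E) - PC K ∈ 𝒮 →
      ∀ (j : ℕ) (A : CSub E), K ⊔ (hC s)^[j] ⊤ ≤ A → ∀ c : ℕ, c ≤ g →
        (PC A - PC (K ⊔ (hC s)^[j] ⊤)).natDegree ≤ c → alpha c (PC A - PC (K ⊔ (hC s)^[j] ⊤)) ≤ C

/-- **Node Trans**: `ℓ`-semistability of `E / s^a E(-a)` in terms of coherent submodules of `E`. -/
def StmtTrans : Prop := ∀ (k : Type u) [Field k] (n g ℓ : ℕ) (E : (CohB1.ProjSpace n k).Modules)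
  [Fact (Coh.IsCoh E)], DimLE E (g + 2) →
  ∀ (s : Coh.structureModule (CohB1.ProjSpace n k) ⟶ O k n 1) [Mono ((nu s).app E)] (a : ℕ),
    IsEllSemistable k (CohB1.ProjSpace n k) (O k n 1) (cokernel (mulI s a E)) (g + 1) ℓ ↔
      PC ((hC s)^[a] (⊤ : CSub E)) ≠ PC (⊤ : CSub E) ∧
      (∀ B : CSub E, (hC s)^[a] ⊤ ≤ B → alpha (g + 1) (PC B) = alpha (g + 1) (PC ((hC s)^[a] (⊤ : CSub E))) →
        B ≤ (hC s)^[a] ⊤) ∧
      (∀ A : CSub E, (hC s)^[a] ⊤ ≤ A →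
        0 < alpha (g + 1) (PC A) - alpha (g + 1) (PC ((hC s)^[a] (⊤ : CSub E))) →
        alpha (g + 1) (PC A) < alpha (g + 1) (PC (⊤ : CSub E)) →
        RedLE (g + 1) (topPart ℓ (g + 1) (PC A - PC ((hC s)^[a] (⊤ : CSub E))))
          (topPart ℓ (g + 1) (PC (⊤ : CSub E) - PC ((hC s)^[a] (⊤ : CSub E)))))

/-- **Node Pure**: `E / h^a E` is pure if `h` avoids a finite set of points. -/
def StmtPure : Prop := ∀ (k : Type u) [Field k] (n g : ℕ) (E : (CohB1.ProjSpace n k).Modules)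
  [Fact (Coh.IsCoh E)], IsPure (CohB1.ProjSpace n k) E (g + 2) →
  ∃ Z : Set (CohB1.ProjSpace n k), Z.Finite ∧
    ∀ s : Coh.structureModule (CohB1.ProjSpace n k) ⟶ O k n 1, Z ⊆ CohB1.genLocus (O k n 1) s →
      ∃ _ : Mono ((nu s).app E), ∀ (a : ℕ) (B : CSub E), (hC s)^[a] ⊤ ≤ B →
        alpha (g + 1) (PC B) = alpha (g + 1) (PC ((hC s)^[a] (⊤ : CSub E))) → B ≤ (hC s)^[a] ⊤

end K781.Inst
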