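import Mathlib.Order.ModularLattice
import Mathlib.Algebra.Order.Chebyshev
import Mathlib.Data.Rat.Floor
import Mathlib.Tactic

/-!
# Lattices with multiplication by a linear form (namespace `K781.Lat`)

`L` is the lattice of coherent submodules of a coherent module `E` on `P^n`, `r`, `m`, `δ` the three top normalised
coefficients of the Hilbert polynomials (in degrees `d`, `d - 1`, `d - 2`), `h A` the submodule `h · A(-1)` of `A`,
`h` an `E`-regular linear form.
-/

set_option autoImplicit false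

namespace K781.Lat

/-- The three top coefficients and multiplication by a regular linear form. -/
structure Num {L : Type*} [Lattice L] [BoundedOrder L] (r m δ : L → ℚ) (h : L → L) : Prop where
  r_mod : ∀ A B, r (A ⊔ B) + r (A ⊓ B) = r A + r B
  m_mod : ∀ A B, m (A ⊔ B) + m (A ⊓ B) = m A + m B
  δ_mod : ∀ A B, δ (A ⊔ B) + δ (A ⊓ B) = δ A + δ B
  r_mono : ∀ {A B}, A ≤ B → r A ≤ r B
  m_mono : ∀ {A B}, A ≤ B → r A = r B → m A ≤ m B
  δ_mono : ∀ {A B}, A ≤ B → r A = r B → m A = m B → δ A ≤ δ B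
  r_int : ∀ A, ∃ z : ℤ, r A = z
  m_int : ∀ {A B}, A ≤ B → r A = r B → ∃ z : ℤ, m B - m A = z
  h_le : ∀ A, h A ≤ A
  h_iff : ∀ {A B}, h A ≤ h B ↔ A ≤ B
  h_surj : ∀ {B}, B ≤ h ⊤ → ∃ A, h A = B
  r_h : ∀ A, r (h A) = r A
  m_h : ∀ A, m (h A) = m A - r A
  δ_h : ∀ A, δ (h A) = δ A - m A + r A / 2

namespace Num

variable {L : Type*} [Lattice L] [BoundedOrder L] {r m δ : L → ℚ} {h : L → L} (N : Num r m δ h)

include N

theorem h_mono {A B : L} (hAB : A ≤ B) : h A ≤ h B := N.h_iff.mpr hAB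

theorem h_inj {A B : L} (hAB : h A = h B) : A = B :=
  le_antisymm (N.h_iff.mp hAB.le) (N.h_iff.mp hAB.ge)

theorem h_sup (A B : L) : h (A ⊔ B) = h A ⊔ h B := by
  apply le_antisymm
  · obtain ⟨C, hC⟩ := N.h_surj (B := h A ⊔ h B) (sup_le (N.h_mono le_top) (N.h_mono le_top))
    rw [← hC]
    apply N.h_mono
    apply sup_le
    · exact N.h_iff.mp (hC ▸ le_sup_left)
    · exact N.h_iff.mp (hC ▸ le_sup_right)
  · exact sup_le (N.h_mono le_sup_left) (N.h_mono le_sup_right)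

/-! ### Powers -/

theorem hp_mono (i : ℕ) {A B : L} (hAB : A ≤ B) : h^[i] A ≤ h^[i] B := by
  induction i with
  | zero => exact hAB
  | succ i ih =>
    rw [Function.iterate_succ_apply', Function.iterate_succ_apply']
    exact N.h_mono ih

theorem hp_iff (i : ℕ) {A B : L} : h^[i] A ≤ h^[i] B ↔ A ≤ B := by
  refine ⟨fun hAB => ?_, N.hp_mono i⟩
  induction i with
  | zero => exact hAB
  | succ i ih =>
    rw [Function.iterate_succ_apply', Function.iterate_succ_apply'] at hAB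
    exact ih (N.h_iff.mp hAB)

theorem hp_inj (i : ℕ) {A B : L} (hAB : h^[i] A = h^[i] B) : A = B :=
  le_antisymm ((N.hp_iff i).mp hAB.le) ((N.hp_iff i).mp hAB.ge)

theorem hp_le (i : ℕ) (A : L) : h^[i] A ≤ A := by
  induction i with
  | zero => exact le_rfl
  | succ i ih =>
    rw [Function.iterate_succ_apply']
    exact (N.h_le _).trans ih

theorem hp_anti {i j : ℕ} (hij : i ≤ j) (A : L) : h^[j] A ≤ h^[i] A := by
  obtain ⟨c, rfl⟩ := Nat.exists_eq_add_of_le hij
  rw [Function.iterate_add_apply]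
  exact N.hp_mono i (N.hp_le c A)

theorem hp_surj (i : ℕ) : ∀ {B : L}, B ≤ h^[i] ⊤ → ∃ A, h^[i] A = B := by
  induction i with
  | zero => exact fun {B} _ => ⟨B, rfl⟩
  | succ i ih =>
    intro B hB
    rw [Function.iterate_succ_apply'] at hB
    obtain ⟨C, rfl⟩ := N.h_surj (hB.trans (N.h_mono le_top))
    obtain ⟨A, rfl⟩ := ih (N.h_iff.mp hB)
    exact ⟨A, by rw [Function.iterate_succ_apply']⟩

theorem hp_sup (i : ℕ) (A B : L) : h^[i] (A ⊔ B) = h^[i] A ⊔ h^[i] B := by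
  induction i with
  | zero => rfl
  | succ i ih => rw [Function.iterate_succ_apply', Function.iterate_succ_apply', Function.iterate_succ_apply', ih,
      N.h_sup]

theorem r_hp (i : ℕ) (A : L) : r (h^[i] A) = r A := by
  induction i with
  | zero => rfl
  | succ i ih => rw [Function.iterate_succ_apply', N.r_h, ih]

theorem m_hp (i : ℕ) (A : L) : m (h^[i] A) = m A - i * r A := by
  induction i with
  | zero => simp
  | succ i ih =>
    rw [Function.iterate_succ_apply', N.m_h, ih, N.r_hp]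
    push_cast
    ring

theorem δ_hp (i : ℕ) (A : L) : δ (h^[i] A) = δ A - i * m A + (i : ℚ) ^ 2 / 2 * r A := by
  induction i with
  | zero => simp
  | succ i ih =>
    rw [Function.iterate_succ_apply', N.δ_h, ih, N.m_hp, N.r_hp]
    push_cast
    ring

/-! ### Sandwiches -/

theorem r_sandwich {A B C : L} (h1 : A ≤ B) (h2 : B ≤ C) (hr : r A = r C) : r B = r C :=
  le_antisymm (N.r_mono h2) (hr ▸ N.r_mono h1)

theorem m_sandwich {A B C : L} (h1 : A ≤ B) (h2 : B ≤ C) (hr : r A = r C) (hm : m A = m C) : m B = m C := by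
  have hB := N.r_sandwich h1 h2 hr
  exact le_antisymm (N.m_mono h2 hB) (hm ▸ N.m_mono h1 (hr.trans hB.symm))

theorem r_of_hp_le {i : ℕ} {A B : L} (h1 : h^[i] A ≤ B) (h2 : B ≤ A) : r B = r A :=
  N.r_sandwich h1 h2 (N.r_hp i A)

theorem r_of_top {i : ℕ} {B : L} (h1 : h^[i] ⊤ ≤ B) : r B = r ⊤ := N.r_of_hp_le h1 le_top

/-- Integrality of `m` differences, as natural numbers. -/
theorem m_nat {A B : L} (hAB : A ≤ B) (hr : r A = r B) : ∃ z : ℕ, m B - m A = z := by
  obtain ⟨z, hz⟩ := N.m_int hAB hr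
  have h0 : 0 ≤ m B - m A := sub_nonneg.mpr (N.m_mono hAB hr)
  rw [hz] at h0
  have h1 : 0 ≤ z := by exact_mod_cast h0
  obtain ⟨n, rfl⟩ := Int.eq_ofNat_of_zero_le h1
  exact ⟨n, by rw [hz]; simp⟩

/-! ### Saturation -/

section sat

variable [WellFoundedGT L]

/-- There is a largest element above `A` with the same `r` and `m`. -/
theorem exists_sat (A : L) : ∃ S : L, A ≤ S ∧ r S = r A ∧ m S = m A ∧
    ∀ B, A ≤ B → r B = r A → m B = m A → B ≤ S := by
  let p : Set L := {S | A ≤ S ∧ r S = r A ∧ m S = m A}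
  obtain ⟨S, hS, hmax⟩ := WellFounded.has_min (wellFounded_gt (α := L)) p ⟨A, le_rfl, rfl, rfl⟩
  refine ⟨S, hS.1, hS.2.1, hS.2.2, fun B hB hr hm => ?_⟩
  have h1 : A ≤ S ⊓ B := le_inf hS.1 hB
  have h2 : r (S ⊓ B) = r A := by
    have := N.r_sandwich h1 inf_le_left (hS.2.1.symm)
    rw [this, hS.2.1]
  have h3 : m (S ⊓ B) = m A := by
    have := N.m_sandwich h1 inf_le_left hS.2.1.symm hS.2.2.symm
    rw [this, hS.2.2]
  have h4 : r (S ⊔ B) = r A := by
    have := N.r_mod S B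
    rw [h2, hS.2.1, hr] at this
    linarith
  have h5 : m (S ⊔ B) = m A := by
    have := N.m_mod S B
    rw [h3, hS.2.2, hm] at this
    linarith
  have h6 : ¬ S < S ⊔ B := fun hlt => hmax (S ⊔ B) ⟨hS.1.trans le_sup_left, h4, h5⟩ hlt
  have h7 : S = S ⊔ B := eq_of_le_of_not_lt le_sup_left h6
  rw [h7]
  exact le_sup_right

/-- The saturation. -/
noncomputable def sat (A : L) : L := (N.exists_sat A).choose

theorem le_sat (A : L) : A ≤ N.sat A := (N.exists_sat A).choose_spec.1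

theorem r_sat (A : L) : r (N.sat A) = r A := (N.exists_sat A).choose_spec.2.1

theorem m_sat (A : L) : m (N.sat A) = m A := (N.exists_sat A).choose_spec.2.2.1

theorem sat_max {A B : L} (h1 : A ≤ B) (h2 : r B = r A) (h3 : m B = m A) : B ≤ N.sat A :=
  (N.exists_sat A).choose_spec.2.2.2 B h1 h2 h3

theorem δ_le_sat (A : L) : δ A ≤ δ (N.sat A) := N.δ_mono (N.le_sat A) (N.r_sat A).symm (N.m_sat A).symm

/-- `B ≤ sat A` as soon as joining `A` with `B` does not change `r` and `m`. -/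
theorem le_sat_of {A B : L} (h2 : r (A ⊔ B) = r A) (h3 : m (A ⊔ B) = m A) : B ≤ N.sat A :=
  le_sup_right.trans (N.sat_max le_sup_left h2 h3)

theorem sat_mono {A B : L} (hAB : A ≤ B) : N.sat A ≤ N.sat B := by
  have h1 : A ≤ N.sat A ⊓ B := le_inf (N.le_sat A) hAB
  have h2 : r (N.sat A ⊓ B) = r (N.sat A) := N.r_sandwich h1 inf_le_left (N.r_sat A).symm
  have h3 : m (N.sat A ⊓ B) = m (N.sat A) := N.m_sandwich h1 inf_le_left (N.r_sat A).symm (N.m_sat A).symm
  have h4 := N.r_mod (N.sat A) B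
  have h5 := N.m_mod (N.sat A) B
  refine le_sup_left.trans (N.sat_max (B := N.sat A ⊔ B) le_sup_right ?_ ?_)
  · linarith
  · linarith

theorem sat_sat (A : L) : N.sat (N.sat A) = N.sat A :=
  le_antisymm (N.sat_max ((N.le_sat A).trans (N.le_sat _)) ((N.r_sat _).trans (N.r_sat _))
    ((N.m_sat _).trans (N.m_sat _))) (N.le_sat _)

theorem sat_of_between {A B : L} (h1 : A ≤ B) (h2 : B ≤ N.sat A) : N.sat B = N.sat A :=
  le_antisymm ((N.sat_mono h2).trans (N.sat_sat A).le) (N.sat_mono h1)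

theorem m_of_between {A B : L} (h1 : A ≤ B) (h2 : B ≤ N.sat A) : m B = m A := by
  rw [← N.m_sat B, N.sat_of_between h1 h2, N.m_sat A]

theorem r_of_between {A B : L} (h1 : A ≤ B) (h2 : B ≤ N.sat A) : r B = r A := by
  rw [← N.r_sat B, N.sat_of_between h1 h2, N.r_sat A]

theorem sat_top : N.sat ⊤ = ⊤ := le_antisymm le_top (N.le_sat _)

theorem h_sat_le (A : L) : h (N.sat A) ≤ N.sat (h A) := by
  refine N.sat_max (N.h_mono (N.le_sat A)) ?_ ?_
  · rw [N.r_h, N.r_h, N.r_sat]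
  · rw [N.m_h, N.m_h, N.r_sat, N.m_sat]

/-- `h A` is saturated in `h ⊤` if `A` is saturated. -/
theorem le_of_h_le_sat {A B : L} (hA : N.sat A = A) (h1 : A ≤ B) (h2 : m (h B) = m (h A)) (h3 : r B = r A) :
    B ≤ A := by
  rw [N.m_h, N.m_h, h3] at h2
  have h4 := N.sat_max h1 h3 (by linarith)
  rwa [hA] at h4

end sat

/-! ### The colon -/

/-- The largest `B` with `h^i B ≤ A`. -/
noncomputable def col (i : ℕ) (A : L) : L := (N.hp_surj i (B := A ⊓ h^[i] ⊤) inf_le_right).choose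

theorem hp_col (i : ℕ) (A : L) : h^[i] (N.col i A) = A ⊓ h^[i] ⊤ :=
  (N.hp_surj i (B := A ⊓ h^[i] ⊤) inf_le_right).choose_spec

theorem le_col_iff (i : ℕ) {A B : L} : B ≤ N.col i A ↔ h^[i] B ≤ A := by
  rw [← N.hp_iff i, N.hp_col]
  exact ⟨fun hB => hB.trans inf_le_left, fun hB => le_inf hB (N.hp_mono i le_top)⟩

theorem col_mono (i : ℕ) {A B : L} (hAB : A ≤ B) : N.col i A ≤ N.col i B := by
  rw [N.le_col_iff, N.hp_col]
  exact inf_le_left.trans hAB

/-! ### The pieces of the `h`-adic filtration -/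

/-- `m` of the graded piece `(G ⊔ h^i A) / (G ⊔ h^{i+1} A)`. -/
theorem piece {G A : L} (i : ℕ) :
    ∃ B : L, h A ≤ B ∧ B ≤ A ∧ h^[i] B = (G ⊔ h^[i + 1] A) ⊓ h^[i] A ∧
      m (G ⊔ h^[i] A) - m (G ⊔ h^[i + 1] A) = m A - m B ∧
      δ (G ⊔ h^[i] A) - δ (G ⊔ h^[i + 1] A) = δ A - δ B - i * (m A - m B) := by
  have hsub : h^[i + 1] A ≤ h^[i] A := N.hp_anti (Nat.le_succ i) A
  obtain ⟨B, hB⟩ := N.hp_surj i (B := (G ⊔ h^[i + 1] A) ⊓ h^[i] A) (inf_le_right.trans (N.hp_mono i le_top))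
  have h1 : h A ≤ B := by
    rw [← N.hp_iff i, hB, ← Function.iterate_succ_apply]
    exact le_inf le_sup_right hsub
  have h2 : B ≤ A := by
    rw [← N.hp_iff i, hB]
    exact inf_le_right
  have hr : r B = r A := N.r_of_hp_le (i := 1) h1 h2
  have hjoin : (G ⊔ h^[i + 1] A) ⊔ h^[i] A = G ⊔ h^[i] A := by
    rw [sup_assoc, sup_eq_right.mpr hsub]
  refine ⟨B, h1, h2, hB, ?_, ?_⟩
  · have h3 := N.m_mod (G ⊔ h^[i + 1] A) (h^[i] A)
    rw [hjoin, ← hB, N.m_hp, N.m_hp, hr] at h3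
    linarith
  · have h3 := N.δ_mod (G ⊔ h^[i + 1] A) (h^[i] A)
    rw [hjoin, ← hB, N.δ_hp, N.δ_hp, hr] at h3
    linarith

/-- The multiplicities of the pieces. -/
noncomputable def w (_N : Num r m δ h) (G A : L) (i : ℕ) : ℚ := m (G ⊔ h^[i] A) - m (G ⊔ h^[i + 1] A)

theorem w_nonneg (G A : L) (i : ℕ) : 0 ≤ N.w G A i := by
  obtain ⟨B, h1, h2, -, h3, -⟩ := N.piece (G := G) (A := A) i
  unfold w
  rw [h3]
  exact sub_nonneg.mpr (N.m_mono h2 (N.r_of_hp_le (i := 1) h1 h2))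

theorem w_nat (G A : L) (i : ℕ) : ∃ z : ℕ, N.w G A i = z := by
  obtain ⟨B, h1, h2, -, h3, -⟩ := N.piece (G := G) (A := A) i
  unfold w
  rw [h3]
  exact N.m_nat h2 (N.r_of_hp_le (i := 1) h1 h2)

/-- The multiplicities of the pieces decrease. -/
theorem w_succ_le {G : L} (hG : h G ≤ G) (A : L) (i : ℕ) : N.w G A (i + 1) ≤ N.w G A i := by
  obtain ⟨B, h1, h2, hB, h3, -⟩ := N.piece (G := G) (A := A) i
  obtain ⟨B', h1', h2', hB', h3', -⟩ := N.piece (G := G) (A := A) (i + 1)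
  unfold w
  rw [h3, h3']
  have hle : B ≤ B' := by
    rw [← N.hp_iff (i + 1), hB', Function.iterate_succ_apply', hB]
    refine le_inf ((N.h_mono inf_le_left).trans ?_) ((N.h_mono inf_le_right).trans ?_)
    · rw [N.h_sup, ← Function.iterate_succ_apply' h]
      exact sup_le (hG.trans le_sup_left) le_sup_right
    · rw [← Function.iterate_succ_apply' h]
  have := N.m_mono hle ((N.r_of_hp_le (i := 1) h1 h2).trans (N.r_of_hp_le (i := 1) h1' h2').symm)
  linarith

theorem w_antitone {G : L} (hG : h G ≤ G) (A : L) : Antitone (N.w G A) :=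
  antitone_nat_of_succ_le (N.w_succ_le hG A)

/-- The pieces decrease when `G` increases. -/
theorem w_anti_left {G G' : L} (hGG : G ≤ G') (A : L) (i : ℕ) : N.w G' A i ≤ N.w G A i := by
  obtain ⟨B, h1, h2, hB, h3, -⟩ := N.piece (G := G) (A := A) i
  obtain ⟨B', h1', h2', hB', h3', -⟩ := N.piece (G := G') (A := A) i
  unfold w
  rw [h3, h3']
  have hle : B ≤ B' := by
    rw [← N.hp_iff i, hB', hB]
    exact inf_le_inf_right _ (sup_le_sup_right hGG _)
  have := N.m_mono hle ((N.r_of_hp_le (i := 1) h1 h2).trans (N.r_of_hp_le (i := 1) h1' h2').symm)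
  linarith

theorem sum_w (G A : L) (n : ℕ) : ∑ i ∈ Finset.range n, N.w G A i = m (G ⊔ A) - m (G ⊔ h^[n] A) := by
  induction n with
  | zero => simp
  | succ n ih =>
    rw [Finset.sum_range_succ, ih]
    unfold w
    ring

/-- Nilpotency from bounded multiplicity. -/
theorem nilp [WellFoundedGT L] {G A : L} (hG : h G ≤ G) {n : ℕ} (hn : h^[n] A ≤ G) {c : ℕ}
    (hc : m (G ⊔ A) - m G < c + 1) : h^[c] A ≤ N.sat G := by
  have hrA : r (G ⊔ A) = r G := by
    have h1 := N.r_mod G A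
    have h2 : r (G ⊓ A) = r A := N.r_of_hp_le (le_inf hn (N.hp_le n A)) inf_le_right
    rw [h2] at h1
    linarith
  have key : ∀ i, c ≤ i → N.w G A i = 0 := by
    intro i hi
    refine le_antisymm ((N.w_antitone hG A hi).trans ?_) (N.w_nonneg G A i)
    by_contra hcon
    rw [not_le] at hcon
    obtain ⟨z, hz⟩ := N.w_nat G A c
    have hz1 : (1 : ℚ) ≤ N.w G A c := by
      rw [hz] at hcon ⊢
      have : 0 < z := by exact_mod_cast hcon
      exact_mod_cast this
    have h1 : ((c + 1 : ℕ) : ℚ) ≤ ∑ i ∈ Finset.range (c + 1), N.w G A i := by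
      have : ∑ i ∈ Finset.range (c + 1), (1 : ℚ) ≤ ∑ i ∈ Finset.range (c + 1), N.w G A i := by
        refine Finset.sum_le_sum fun i hi => hz1.trans (N.w_antitone hG A ?_)
        have := Finset.mem_range.mp hi
        omega
      simpa using this
    rw [N.sum_w] at h1
    have h2 : m G ≤ m (G ⊔ h^[c + 1] A) := by
      refine N.m_mono le_sup_left (le_antisymm (N.r_mono le_sup_left) ?_)
      rw [← hrA]
      exact N.r_mono (sup_le_sup_left (N.hp_le _ A) _)
    push_cast at h1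
    linarith
  have h3 : ∀ j, m (G ⊔ h^[c + j] A) = m (G ⊔ h^[c] A) := by
    intro j
    induction j with
    | zero => rfl
    | succ j ih =>
      have := key (c + j) (Nat.le_add_right _ _)
      unfold w at this
      rw [← ih]
      rw [← add_assoc]
      linarith
  apply N.le_sat_of
  · refine le_antisymm ?_ (N.r_mono le_sup_left)
    rw [← hrA]
    exact N.r_mono (sup_le_sup_left (N.hp_le _ A) _)
  · rw [← h3 n]
    congr 1
    exact sup_eq_left.mpr ((N.hp_anti (Nat.le_add_left n c) A).trans hn)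

/-! ### Lower bounds for `δ` from the bound for the quotients of `⊤ / h ⊤` -/

section lower

variable {μ : ℚ} (hμ : ∀ A, h ⊤ ≤ A → μ * (m ⊤ - m A) ≤ δ ⊤ - δ A)

include hμ

theorem piece_lower (G : L) (i : ℕ) :
    (μ - i) * N.w G ⊤ i ≤ δ (G ⊔ h^[i] ⊤) - δ (G ⊔ h^[i + 1] ⊤) := by
  obtain ⟨B, h1, -, -, h3, h4⟩ := N.piece (G := G) (A := ⊤) i
  have h5 := hμ B h1
  unfold w
  rw [h3, h4]
  linarith

theorem sum_lower (G : L) {i j : ℕ} (hij : i ≤ j) :
    ∑ t ∈ Finset.Ico i j, (μ - t) * N.w G ⊤ t ≤ δ (G ⊔ h^[i] ⊤) - δ (G ⊔ h^[j] ⊤) := by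
  induction j, hij using Nat.le_induction with
  | base => simp
  | succ j hj ih =>
    rw [Finset.sum_Ico_succ_top hj]
    have := N.piece_lower hμ G j
    linarith

end lower

end Num

end K781.Lat
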