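import Groth.Agent.ShStab.K781.Lat

/-!
# The chain of a destabilizing element (namespace `K781.Lat2`)

`F ≥ h^a ⊤` with `δ(⊤/F) ≤ (M - a/2) m(⊤/F)`.  The multiplicities `w F ⊤ i` are constant in the middle
(`exists_const`), and the saturations `S j` of `(F : h^{C₁}) + h^j ⊤` have bounded slopes (`slope_le`).
-/

set_option autoImplicit false
set_option linter.unusedSectionVars false

namespace K781.Lat2

open K781.Lat

theorem sum_range_id_rat (n : ℕ) : ∑ j ∈ Finset.range n, (j : ℚ) = n * (n - 1) / 2 := by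
  induction n with
  | zero => simp
  | succ n ih =>
    rw [Finset.sum_range_succ, ih]
    push_cast
    ring

theorem sum_x (a : ℚ) (n : ℕ) : ∑ j ∈ Finset.range n, (a / 2 - j) = n * (a - n + 1) / 2 := by
  rw [Finset.sum_sub_distrib, sum_range_id_rat, Finset.sum_const, Finset.card_range, nsmul_eq_mul]
  ring

theorem sum_antitone_nonneg {v : ℕ → ℚ} (hv : Antitone v) (h0 : ∀ i, 0 ≤ v i) (a : ℕ) :
    0 ≤ ∑ j ∈ Finset.range a, v j * ((a : ℚ) / 2 - j) := by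
  rcases Nat.eq_zero_or_pos a with rfl | ha
  · simp
  have hx : Antitone (fun j : ℕ => (a : ℚ) / 2 - j) := fun i j hij => by
    have : (i : ℚ) ≤ j := by exact_mod_cast hij
    simp only
    linarith
  have h1 := (hv.monovary hx).monovaryOn (Finset.range a : Set ℕ) |>.sum_mul_sum_le_card_mul_sum
  rw [sum_x, Finset.card_range] at h1
  have h2 : 0 ≤ (∑ i ∈ Finset.range a, v i) * ((a : ℚ) * (a - a + 1) / 2) :=
    mul_nonneg (Finset.sum_nonneg fun i _ => h0 i) (by rw [sub_self, zero_add, mul_one]; positivity)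
  have ha' : (0 : ℚ) < a := by exact_mod_cast ha
  exact (mul_nonneg_iff_of_pos_left ha').mp (h2.trans h1)

/-- A drop in the middle contributes. -/
theorem drop {v : ℕ → ℚ} {a i : ℕ} (hv : Antitone v) (h0 : ∀ i, 0 ≤ v i) (hi : 1 ≤ i) (hia : i ≤ a)
    (hd : v i + 1 ≤ v (i - 1)) :
    (i : ℚ) * (a - i) / 2 ≤ ∑ j ∈ Finset.range a, v j * ((a : ℚ) / 2 - j) := by
  let u : ℕ → ℚ := fun j => v j - (if j < i then 1 else 0)
  have hu0 : ∀ j, 0 ≤ u j := by
    intro j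
    simp only [u]
    split_ifs with hj
    · have := hv (show j ≤ i - 1 by omega)
      have := h0 i
      linarith
    · have := h0 j
      linarith
  have hu : Antitone u := by
    intro j j' hjj
    simp only [u]
    have h1 := hv hjj
    split_ifs with h2 h3 h3
    · linarith
    · exact absurd (lt_of_le_of_lt hjj h2) h3
    · have h4 := hv (show j ≤ i - 1 by omega)
      have h5 := hv (show i ≤ j' by omega)
      linarith
    · linarith
  have h1 := sum_antitone_nonneg hu hu0 a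
  have h2 : ∑ j ∈ Finset.range a, v j * ((a : ℚ) / 2 - j) =
      ∑ j ∈ Finset.range a, u j * ((a : ℚ) / 2 - j) + ∑ j ∈ Finset.range i, ((a : ℚ) / 2 - j) := by
    have h3 : ∑ j ∈ Finset.range i, ((a : ℚ) / 2 - j) =
        ∑ j ∈ Finset.range a, (if j < i then 1 else 0) * ((a : ℚ) / 2 - j) := by
      rw [← Finset.sum_subset (Finset.range_subset_range.mpr hia)]
      · refine Finset.sum_congr rfl fun j hj => ?_
        rw [if_pos (Finset.mem_range.mp hj), one_mul]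
      · intro j _ hj
        rw [if_neg (fun h => hj (Finset.mem_range.mpr h)), zero_mul]
    rw [h3, ← Finset.sum_add_distrib]
    refine Finset.sum_congr rfl fun j _ => ?_
    simp only [u]
    ring
  rw [h2, sum_x]
  have hi' : (0 : ℚ) ≤ i := by positivity
  nlinarith

/-- The sequence is constant in the middle. -/
theorem const_of_sum_le {v : ℕ → ℚ} {a C : ℕ} {κ R : ℚ} (hv : Antitone v) (hint : ∀ i, ∃ z : ℕ, v i = z)
    (hR : v 0 ≤ R) (hκ : 0 ≤ κ)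
    (hsum : ∑ j ∈ Finset.range a, v j * ((a : ℚ) / 2 - j) ≤ κ * ∑ j ∈ Finset.range a, v j)
    (hC : 4 * κ * R < C) (ha : 2 * C ≤ a) (i : ℕ) (h1 : C ≤ i) (h2 : i < a - C) : v i = v C := by
  have h0 : ∀ i, 0 ≤ v i := fun i => by
    obtain ⟨z, hz⟩ := hint i
    rw [hz]
    positivity
  induction i, h1 using Nat.le_induction with
  | base => rfl
  | succ j hj ih =>
    rw [← ih (by omega)]
    by_contra hne
    have hlt : v (j + 1) < v j := lt_of_le_of_ne (hv (Nat.le_succ j)) hne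
    obtain ⟨z, hz⟩ := hint (j + 1)
    obtain ⟨z', hz'⟩ := hint j
    have hd : v (j + 1) + 1 ≤ v (j + 1 - 1) := by
      rw [Nat.add_sub_cancel]
      rw [hz, hz'] at hlt ⊢
      have : z < z' := by exact_mod_cast hlt
      exact_mod_cast this
    have h3 := drop (a := a) hv h0 (Nat.le_add_left 1 j) (by omega) hd
    have h4 : ∑ j ∈ Finset.range a, v j ≤ a * R := by
      calc ∑ j ∈ Finset.range a, v j ≤ ∑ j ∈ Finset.range a, R :=
            Finset.sum_le_sum fun j _ => (hv (Nat.zero_le j)).trans hR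
        _ = a * R := by rw [Finset.sum_const, Finset.card_range, nsmul_eq_mul]
    have h5 : ((j + 1 : ℕ) : ℚ) * (a - (j + 1 : ℕ)) / 2 ≤ κ * (a * R) :=
      h3.trans (hsum.trans (mul_le_mul_of_nonneg_left h4 hκ))
    have hj' : (C : ℚ) ≤ ((j + 1 : ℕ) : ℚ) := by exact_mod_cast (show C ≤ j + 1 by omega)
    have hj'' : (C : ℚ) ≤ (a : ℚ) - ((j + 1 : ℕ) : ℚ) := by
      have : C + (j + 1) ≤ a := by omega
      have : (C : ℚ) + ((j + 1 : ℕ) : ℚ) ≤ a := by exact_mod_cast this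
      linarith
    have haC : (2 : ℚ) * C ≤ a := by exact_mod_cast ha
    have hC0 : (0 : ℚ) ≤ C := by positivity
    have ha0 : (0 : ℚ) < a := by
      have : 0 < a := by omega
      exact_mod_cast this
    -- `C (a - C) ≤ (j+1)(a - (j+1))`
    have h6 : (C : ℚ) * (a - C) ≤ ((j + 1 : ℕ) : ℚ) * (a - (j + 1 : ℕ)) := by nlinarith
    have h7 : (C : ℚ) * a / 2 ≤ C * (a - C) := by nlinarith
    have h8 : (C : ℚ) * a / 4 ≤ κ * (a * R) := by linarith
    have h9 : (C : ℚ) * a ≤ (4 * κ * R) * a := by linarith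
    have h10 := le_of_mul_le_mul_right h9 ha0
    linarith

section chain

variable {L : Type*} [Lattice L] [BoundedOrder L] [IsModularLattice L] [WellFoundedGT L] {r m δ : L → ℚ}
  {h : L → L} (N : Num r m δ h)

include N

theorem w_zero_le (F : L) : N.w F ⊤ 0 ≤ r ⊤ := by
  have h1 : m (F ⊔ h^[0] ⊤) = m ⊤ := by simp
  have h2 : m (h ⊤) ≤ m (F ⊔ h^[0 + 1] ⊤) := by
    refine N.m_mono le_sup_right ?_
    exact (N.r_h ⊤).trans (N.r_of_top (i := 1) le_sup_right).symm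
  have h3 := N.m_h ⊤
  unfold Num.w
  rw [h1]
  linarith

theorem w_le (F : L) (i : ℕ) : N.w F ⊤ i ≤ r ⊤ :=
  (N.w_antitone (N.h_le F) ⊤ (Nat.zero_le i)).trans (w_zero_le N F)

variable {μ M R : ℚ} {C₁ a : ℕ} (hμ : ∀ A, h ⊤ ≤ A → μ * (m ⊤ - m A) ≤ δ ⊤ - δ A) (hR : r ⊤ ≤ R)

include hμ hR

/-- Crude lower bound. -/
theorem lower_crude (F : L) {i j : ℕ} (hij : i ≤ j) :
    -((j - i : ℚ) * (|μ| + j) * R) ≤ δ (F ⊔ h^[i] ⊤) - δ (F ⊔ h^[j] ⊤) := by
  refine le_trans ?_ (N.sum_lower hμ F hij)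
  have h1 : ∀ t ∈ Finset.Ico i j, -((|μ| + j) * R) ≤ (μ - t) * N.w F ⊤ t := by
    intro t ht
    have ht' := (Finset.mem_Ico.mp ht).2
    have h2 : (t : ℚ) ≤ j := by exact_mod_cast ht'.le
    have h3 := N.w_nonneg F ⊤ t
    have h4 := (w_le N F t).trans hR
    have h5 := neg_abs_le μ
    have h6 : 0 ≤ |μ| + (j : ℚ) := by positivity
    calc -((|μ| + j) * R) ≤ -((|μ| + j) * N.w F ⊤ t) := by
          have := mul_le_mul_of_nonneg_left h4 h6
          linarith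
      _ ≤ (μ - t) * N.w F ⊤ t := by
          have : 0 ≤ (|μ| + j + (μ - t)) * N.w F ⊤ t := mul_nonneg (by linarith) h3
          linarith
  calc -((j - i : ℚ) * (|μ| + j) * R) = ∑ t ∈ Finset.Ico i j, -((|μ| + j) * R) := by
        rw [Finset.sum_const, Nat.card_Ico, nsmul_eq_mul, Nat.cast_sub hij]
        ring
    _ ≤ _ := Finset.sum_le_sum h1

theorem exists_const (hC : 4 * (|M| + |μ|) * R < C₁) (ha : 2 * C₁ ≤ a) {F : L} (hF : h^[a] ⊤ ≤ F)
    (hδ : δ ⊤ - δ F ≤ (M - a / 2) * (m ⊤ - m F)) :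
    ∃ s : ℕ, (s : ℚ) ≤ R ∧ ∀ i, C₁ ≤ i → i < a - C₁ → N.w F ⊤ i = s := by
  obtain ⟨s, hs⟩ := N.w_nat F ⊤ C₁
  have h0 : F ⊔ h^[0] ⊤ = ⊤ := by simp
  have ha' : F ⊔ h^[a] ⊤ = F := sup_eq_left.mpr hF
  have h1 := N.sum_lower hμ F (Nat.zero_le a)
  rw [h0, ha', ← Finset.range_eq_Ico] at h1
  have h2 := N.sum_w F ⊤ a
  rw [sup_top_eq, ha'] at h2
  refine ⟨s, hs ▸ (w_le N F C₁).trans hR, fun i hi hi' => ?_⟩
  rw [const_of_sum_le (N.w_antitone (N.h_le F) ⊤) (fun i => N.w_nat F ⊤ i) ((w_zero_le N F).trans hR)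
    (κ := |M| + |μ|) (by positivity) ?_ hC ha i hi hi', hs]
  have h3 : ∑ j ∈ Finset.range a, N.w F ⊤ j * ((a : ℚ) / 2 - j) =
      ∑ j ∈ Finset.range a, (μ - j) * N.w F ⊤ j + (a / 2 - μ) * ∑ j ∈ Finset.range a, N.w F ⊤ j := by
    rw [Finset.mul_sum, ← Finset.sum_add_distrib]
    refine Finset.sum_congr rfl fun j _ => ?_
    ring
  rw [h3]
  have h4 : 0 ≤ ∑ j ∈ Finset.range a, N.w F ⊤ j := Finset.sum_nonneg fun i _ => N.w_nonneg F ⊤ i
  have h5 : M - μ ≤ |M| + |μ| := by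
    have := le_abs_self M
    have := neg_abs_le μ
    linarith
  rw [← h2] at hδ
  nlinarith [mul_le_mul_of_nonneg_right h5 h4]

omit hμ hR

/-! ### The chain `S j` -/

/-- `S j = sat ((F : h^c) + h^j ⊤)`. -/
noncomputable def S (c : ℕ) (F : L) (j : ℕ) : L := N.sat (N.col c F ⊔ h^[j] ⊤)

theorem S_zero (c : ℕ) (F : L) : S N c F 0 = ⊤ := by
  unfold S
  rw [Function.iterate_zero, id, sup_top_eq, N.sat_top]

theorem S_succ_le (c : ℕ) (F : L) (j : ℕ) : S N c F (j + 1) ≤ S N c F j :=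
  N.sat_mono (sup_le_sup_left (N.hp_anti (Nat.le_succ j) ⊤) _)

theorem F_le_col (c : ℕ) (F : L) : F ≤ N.col c F := (N.le_col_iff c).mpr (N.hp_le c F)

theorem F_le_S (c : ℕ) (F : L) (j : ℕ) : F ≤ S N c F j :=
  (F_le_col N c F).trans (le_sup_left.trans (N.le_sat _))

theorem hp_le_S (c : ℕ) (F : L) (j : ℕ) : h^[j] ⊤ ≤ S N c F j := le_sup_right.trans (N.le_sat _)

theorem sat_S (c : ℕ) (F : L) (j : ℕ) : N.sat (S N c F j) = S N c F j := N.sat_sat _

theorem r_S (c : ℕ) (F : L) (j : ℕ) : r (S N c F j) = r ⊤ := N.r_of_top (hp_le_S N c F j)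

theorem h_S_le (c : ℕ) (F : L) (j : ℕ) : h (S N c F j) ≤ S N c F (j + 1) := by
  unfold S
  refine (N.h_sat_le _).trans (N.sat_mono ?_)
  rw [N.h_sup, ← Function.iterate_succ_apply' h]
  exact sup_le_sup_right (N.h_le _) _

/-- `h^c ((F : h^c) + h^j ⊤) = (F + h^{c+j} ⊤) ∩ h^c ⊤`. -/
theorem hp_base (c : ℕ) (F : L) (j : ℕ) :
    h^[c] (N.col c F ⊔ h^[j] ⊤) = (F ⊔ h^[c + j] ⊤) ⊓ h^[c] ⊤ := by
  rw [N.hp_sup, N.hp_col, ← Function.iterate_add_apply]
  have h1 : h^[c + j] ⊤ ≤ h^[c] (⊤ : L) := N.hp_anti (Nat.le_add_right c j) ⊤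
  rw [inf_comm F, inf_sup_assoc_of_le F h1, inf_comm]

theorem sup_base (c : ℕ) (F : L) (j : ℕ) : (F ⊔ h^[c + j] ⊤) ⊔ h^[c] ⊤ = F ⊔ h^[c] ⊤ := by
  rw [sup_assoc, sup_eq_right.mpr (N.hp_anti (Nat.le_add_right c j) ⊤)]

theorem m_base (c : ℕ) (F : L) (j : ℕ) :
    m (N.col c F ⊔ h^[j] ⊤) = m ⊤ - (m (F ⊔ h^[c] ⊤) - m (F ⊔ h^[c + j] ⊤)) := by
  have h1 := N.m_mod (F ⊔ h^[c + j] ⊤) (h^[c] ⊤)
  rw [sup_base N, ← hp_base N, N.m_hp, N.m_hp, N.r_of_top (i := j) le_sup_right] at h1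
  linarith

theorem δ_base (c : ℕ) (F : L) (j : ℕ) :
    δ (N.col c F ⊔ h^[j] ⊤) = δ ⊤ - (δ (F ⊔ h^[c] ⊤) - δ (F ⊔ h^[c + j] ⊤)) -
      c * (m ⊤ - m (N.col c F ⊔ h^[j] ⊤)) := by
  have h1 := N.δ_mod (F ⊔ h^[c + j] ⊤) (h^[c] ⊤)
  rw [sup_base N, ← hp_base N, N.δ_hp, N.δ_hp, N.r_of_top (i := j) le_sup_right] at h1
  linarith

section bounded

variable {F : L} {s : ℕ} (hs : ∀ i, C₁ ≤ i → i < a - C₁ → N.w F ⊤ i = s)

include hs

theorem m_middle {i j : ℕ} (hi : C₁ ≤ i) (hij : i ≤ j) (hj : j ≤ a - C₁) :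
    m (F ⊔ h^[i] ⊤) - m (F ⊔ h^[j] ⊤) = (j - i) * s := by
  induction j, hij using Nat.le_induction with
  | base => simp
  | succ j hj' ih =>
    have h1 := hs j (by omega) (by omega)
    unfold Num.w at h1
    have h2 := ih (by omega)
    push_cast
    linarith

theorem m_S {j : ℕ} (hj : j + 2 * C₁ ≤ a) : m (S N C₁ F j) = m ⊤ - j * s := by
  unfold S
  rw [N.m_sat, m_base N, m_middle N hs le_rfl (Nat.le_add_right _ _) (by omega)]
  push_cast
  ring

/-- The multiplication by `h` is injective on the pieces. -/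
theorem S_inf_h {j : ℕ} (hj : j + 2 + 2 * C₁ ≤ a) :
    S N C₁ F (j + 2) ⊓ h (S N C₁ F j) = h (S N C₁ F (j + 1)) := by
  apply le_antisymm
  · obtain ⟨B, hB⟩ := N.h_surj (B := S N C₁ F (j + 2) ⊓ h (S N C₁ F j)) (inf_le_right.trans (N.h_mono le_top))
    have h1 : h (S N C₁ F (j + 1)) ≤ S N C₁ F (j + 2) ⊓ h (S N C₁ F j) :=
      le_inf (h_S_le N C₁ F (j + 1)) (N.h_mono (S_succ_le N C₁ F j))
    have h2 : S N C₁ F (j + 1) ≤ B := N.h_iff.mp (hB ▸ h1)
    -- the join has full `m`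
    have h3 : m (S N C₁ F (j + 2) ⊔ h (S N C₁ F j)) = m (S N C₁ F (j + 1)) := by
      have h4 : N.col C₁ F ⊔ h^[j + 1] ⊤ ≤ S N C₁ F (j + 2) ⊔ h (S N C₁ F j) := by
        refine sup_le ?_ ?_
        · exact (le_sup_left.trans (N.le_sat _)).trans le_sup_left
        · rw [Function.iterate_succ_apply']
          exact (N.h_mono (hp_le_S N C₁ F j)).trans le_sup_right
      have h5 : S N C₁ F (j + 2) ⊔ h (S N C₁ F j) ≤ N.sat (N.col C₁ F ⊔ h^[j + 1] ⊤) :=
        sup_le (S_succ_le N C₁ F (j + 1)) (h_S_le N C₁ F j)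
      rw [N.m_of_between h4 h5]
      unfold S
      rw [N.m_sat]
    have h6 := N.m_mod (S N C₁ F (j + 2)) (h (S N C₁ F j))
    rw [h3, N.m_h, r_S N, m_S N hs (j := j + 2) (by omega), m_S N hs (j := j) (by omega),
      m_S N hs (j := j + 1) (by omega)] at h6
    rw [← hB]
    apply N.h_mono
    refine N.le_of_h_le_sat (sat_S N C₁ F (j + 1)) h2 ?_ ?_
    · rw [hB, N.m_h, r_S N, m_S N hs (j := j + 1) (by omega)]
      push_cast at h6 ⊢
      linarith
    · rw [r_S N]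
      exact N.r_of_top (i := j + 1) ((hp_le_S N C₁ F (j + 1)).trans h2)
  · exact le_inf (h_S_le N C₁ F (j + 1)) (N.h_mono (S_succ_le N C₁ F j))

/-- The normalised second coefficients of the pieces. -/
theorem t_mono {j : ℕ} (hj : j + 2 + 2 * C₁ ≤ a) :
    δ (S N C₁ F j) - δ (S N C₁ F (j + 1)) + j * s ≤
      δ (S N C₁ F (j + 1)) - δ (S N C₁ F (j + 2)) + ((j + 1 : ℕ) : ℚ) * s := by
  have h0 := N.δ_mod (S N C₁ F (j + 2)) (h (S N C₁ F j))
  rw [S_inf_h N hs hj, N.δ_h, N.δ_h, r_S N, r_S N, m_S N hs (j := j) (by omega), m_S N hs (j := j + 1) (by omega)]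
    at h0
  have h1 : δ (S N C₁ F (j + 2) ⊔ h (S N C₁ F j)) ≤ δ (S N C₁ F (j + 1)) := by
    have h2 : S N C₁ F (j + 2) ⊔ h (S N C₁ F j) ≤ S N C₁ F (j + 1) :=
      sup_le (S_succ_le N C₁ F (j + 1)) (h_S_le N C₁ F j)
    refine N.δ_mono h2 ?_ ?_
    · exact (N.r_of_top (i := j + 2) ((hp_le_S N C₁ F (j + 2)).trans le_sup_left)).trans (r_S N _ _ _).symm
    · have h4 : N.col C₁ F ⊔ h^[j + 1] ⊤ ≤ S N C₁ F (j + 2) ⊔ h (S N C₁ F j) := by
        refine sup_le ?_ ?_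
        · exact (le_sup_left.trans (N.le_sat _)).trans le_sup_left
        · rw [Function.iterate_succ_apply']
          exact (N.h_mono (hp_le_S N C₁ F j)).trans le_sup_right
      rw [N.m_of_between h4 h2]
      unfold S
      rw [N.m_sat]
  push_cast at h0 ⊢
  linarith

end bounded

end chain

end K781.Lat2
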