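import Groth.Agent.ShStab.K781.Lat2

/-!
# The slopes of the pieces of the chain are bounded (namespace `K781.Lat3`)
-/

set_option autoImplicit false
set_option linter.unusedSectionVars false

namespace K781.Lat3

open K781.Lat K781.Lat2

variable {L : Type*} [Lattice L] [BoundedOrder L] [IsModularLattice L] [WellFoundedGT L] {r m δ : L → ℚ}
  {h : L → L} (N : Num r m δ h)

/-- The normalised second coefficient of the `j`-th piece. -/
noncomputable def T (N : Num r m δ h) (C₁ : ℕ) (F : L) (s j : ℕ) : ℚ :=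
  δ (S N C₁ F j) - δ (S N C₁ F (j + 1)) + j * s

theorem sum_T (C₁ : ℕ) (F : L) (s n : ℕ) :
    ∑ j ∈ Finset.range n, T N C₁ F s j = δ ⊤ - δ (S N C₁ F n) + (n : ℚ) * (n - 1) / 2 * s := by
  induction n with
  | zero => simp [S_zero]
  | succ n ih =>
    rw [Finset.sum_range_succ, ih]
    unfold T
    push_cast
    ring

/-- The bound for the slopes. -/
noncomputable def C8 (M μ R : ℚ) (C₁ : ℕ) : ℚ := 8 * (R * (|M| + |μ| + C₁ * (2 * |μ| + C₁ + 1)))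

variable {μ M R : ℚ} {C₁ a : ℕ} (hμ : ∀ A, h ⊤ ≤ A → μ * (m ⊤ - m A) ≤ δ ⊤ - δ A) (hR : r ⊤ ≤ R)
  {F : L} {s : ℕ} (hs : ∀ i, C₁ ≤ i → i < a - C₁ → N.w F ⊤ i = s)

include N hs

theorem T_mono {i j : ℕ} (hij : i ≤ j) (hj : j + 1 + 2 * C₁ ≤ a) : T N C₁ F s i ≤ T N C₁ F s j := by
  induction j, hij using Nat.le_induction with
  | base => exact le_rfl
  | succ j hj' ih =>
    refine (ih (by omega)).trans ?_
    unfold T
    exact t_mono N hs (by omega)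

include hμ

theorem T_zero (hs0 : (0 : ℚ) ≤ R) (hsR : (s : ℚ) ≤ R) (ha : 1 + 2 * C₁ ≤ a) : -(|μ| * R) ≤ T N C₁ F s 0 := by
  have h1 := hμ (S N C₁ F 1) (hp_le_S N C₁ F 1)
  rw [m_S N hs (j := 1) ha] at h1
  have h2 : T N C₁ F s 0 = δ ⊤ - δ (S N C₁ F 1) := by
    unfold T
    rw [S_zero]
    simp
  rw [h2]
  have h3 : -(|μ| * R) ≤ μ * s := by
    have h4 := neg_abs_le μ
    have h5 : (0 : ℚ) ≤ s := by positivity
    have h6 := mul_le_mul_of_nonneg_right h4 h5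
    have h7 := mul_le_mul_of_nonneg_left hsR (abs_nonneg μ)
    linarith
  push_cast at h1
  linarith

include hR

/-- Upper bound for the sum of the slopes. -/
theorem sum_T_le (hs0 : (0 : ℚ) ≤ R) (hsR : (s : ℚ) ≤ R) (ha : 1 + 2 * C₁ ≤ a) (hF : h^[a] ⊤ ≤ F)
    (hMa : M ≤ (a : ℚ) / 2) (hδ : δ ⊤ - δ F ≤ (M - a / 2) * (m ⊤ - m F)) :
    ∑ j ∈ Finset.range (a - 2 * C₁), T N C₁ F s j ≤ a * (R * (|M| + C₁ * (2 * |μ| + C₁ + 1))) := by
  obtain ⟨n, rfl⟩ : ∃ n, a = n + 2 * C₁ := ⟨a - 2 * C₁, by omega⟩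
  rw [Nat.add_sub_cancel, sum_T]
  have h0 : F ⊔ h^[0] ⊤ = ⊤ := by simp
  have ha' : F ⊔ h^[n + 2 * C₁] ⊤ = F := sup_eq_left.mpr hF
  have e1 : C₁ + n = n + 2 * C₁ - C₁ := by omega
  have l1 := lower_crude N hμ hR F (Nat.zero_le C₁)
  have l2 := lower_crude N hμ hR F (show C₁ + n ≤ n + 2 * C₁ by omega)
  rw [h0] at l1
  rw [ha'] at l2
  -- the middle
  have m1 := m_middle N hs (i := C₁) (j := C₁ + n) le_rfl (by omega) (by omega)
  have b1 := δ_base N C₁ F n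
  have b2 := m_base N C₁ F n
  rw [m1] at b2
  have b3 := N.δ_le_sat (N.col C₁ F ⊔ h^[n] ⊤)
  have b4 : N.sat (N.col C₁ F ⊔ h^[n] ⊤) = S N C₁ F n := rfl
  rw [b4, b1, b2] at b3
  -- the total multiplicity
  have m2 : (n : ℚ) * s ≤ m ⊤ - m F := by
    have t1 : m (F ⊔ h^[C₁] ⊤) ≤ m ⊤ := N.m_mono le_top (N.r_of_top (i := C₁) le_sup_right)
    have t2 : m F ≤ m (F ⊔ h^[C₁ + n] ⊤) :=
      N.m_mono le_sup_left ((N.r_of_top hF).trans (N.r_of_top (i := C₁ + n) le_sup_right).symm)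
    push_cast at m1
    linarith
  have m3 : (M - ((n + 2 * C₁ : ℕ) : ℚ) / 2) * (m ⊤ - m F) ≤ (M - ((n + 2 * C₁ : ℕ) : ℚ) / 2) * (n * s) :=
    mul_le_mul_of_nonpos_left m2 (by linarith)
  have hn0 : (0 : ℚ) ≤ n := by positivity
  have hc0 : (0 : ℚ) ≤ C₁ := by positivity
  have hs' : (0 : ℚ) ≤ s := by positivity
  have hμ0 := abs_nonneg μ
  have a1 : (1 : ℚ) ≤ n := by
    have : 1 ≤ n := by omega
    exact_mod_cast this
  have k1 : M * (n * s) ≤ n * (|M| * R) := by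
    have t1 : M * (n * s) ≤ |M| * (n * s) := mul_le_mul_of_nonneg_right (le_abs_self M) (by positivity)
    have t2 : |M| * (n * s) ≤ |M| * (n * R) :=
      mul_le_mul_of_nonneg_left (mul_le_mul_of_nonneg_left hsR hn0) (abs_nonneg M)
    linarith
  have k2 : (0 : ℚ) ≤ n * s := by positivity
  push_cast at l1 l2 hδ m3 b3 ⊢
  have k3 : (0 : ℚ) ≤ |M| * R := by positivity
  have k4 : (0 : ℚ) ≤ C₁ * |M| * R := by positivity
  have k5 : (0 : ℚ) ≤ C₁ * C₁ * |μ| * R := by positivity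
  have k6 : (0 : ℚ) ≤ C₁ * (n - 1) * |μ| * R := by
    have : (0 : ℚ) ≤ n - 1 := by linarith
    positivity
  have k7 : (0 : ℚ) ≤ C₁ * (n - 1) * C₁ * R := by
    have : (0 : ℚ) ≤ n - 1 := by linarith
    positivity
  have k8 : (0 : ℚ) ≤ C₁ * C₁ * R := by positivity
  have k9 : (0 : ℚ) ≤ C₁ * C₁ * C₁ * R := by positivity
  nlinarith [l1, l2, hδ, m3, b3, k1, k2, k3, k4, k5, k6, k7, k8, k9]

/-- **The slopes of the pieces are bounded.** -/
theorem T_le (hs0 : (0 : ℚ) ≤ R) (hsR : (s : ℚ) ≤ R) (ha : 16 * C₁ + 8 ≤ a) (hF : h^[a] ⊤ ≤ F)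
    (hMa : M ≤ (a : ℚ) / 2) (hδ : δ ⊤ - δ F ≤ (M - a / 2) * (m ⊤ - m F)) {j : ℕ} (hj : j ≤ a - a / 4) :
    T N C₁ F s j ≤ C8 M μ R C₁ := by
  have hC8 : 0 ≤ C8 M μ R C₁ := by unfold C8; positivity
  by_cases hneg : T N C₁ F s j ≤ 0
  · exact hneg.trans hC8
  rw [not_le] at hneg
  have hjn : j ≤ a - 2 * C₁ := by omega
  have h1 := sum_T_le N hμ hR hs hs0 hsR (by omega) hF hMa hδ
  have h2 := Finset.sum_range_add_sum_Ico (T N C₁ F s) hjn
  have h3 : ∑ i ∈ Finset.range j, -(|μ| * R) ≤ ∑ i ∈ Finset.range j, T N C₁ F s i := by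
    refine Finset.sum_le_sum fun i hi => ?_
    have := Finset.mem_range.mp hi
    exact (T_zero N hμ hs hs0 hsR (by omega)).trans (T_mono N hs (Nat.zero_le i) (by omega))
  have h4 : ∑ i ∈ Finset.Ico j (a - 2 * C₁), T N C₁ F s j ≤ ∑ i ∈ Finset.Ico j (a - 2 * C₁), T N C₁ F s i := by
    refine Finset.sum_le_sum fun i hi => ?_
    have := Finset.mem_Ico.mp hi
    exact T_mono N hs this.1 (by omega)
  rw [Finset.sum_const, Finset.card_range, nsmul_eq_mul] at h3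
  rw [Finset.sum_const, Nat.card_Ico, nsmul_eq_mul] at h4
  have h5 : (a : ℚ) / 8 ≤ ((a - 2 * C₁ - j : ℕ) : ℚ) := by
    rw [div_le_iff₀ (by norm_num)]
    have : a ≤ (a - 2 * C₁ - j) * 8 := by omega
    exact_mod_cast this
  have h6 : (a : ℚ) / 8 * T N C₁ F s j ≤ ((a - 2 * C₁ - j : ℕ) : ℚ) * T N C₁ F s j :=
    mul_le_mul_of_nonneg_right h5 hneg.le
  have h7 : (j : ℚ) ≤ a := by
    have : j ≤ a := by omega
    exact_mod_cast this
  have h8 : (j : ℚ) * (|μ| * R) ≤ a * (|μ| * R) := mul_le_mul_of_nonneg_right h7 (by positivity)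
  have ha0 : (0 : ℚ) < a := by
    have : 0 < a := by omega
    exact_mod_cast this
  have h9 : (a : ℚ) / 8 * T N C₁ F s j ≤ a / 8 * C8 M μ R C₁ := by
    unfold C8
    have : (a : ℚ) / 8 * (8 * (R * (|M| + |μ| + C₁ * (2 * |μ| + C₁ + 1)))) =
      a * (R * (|M| + C₁ * (2 * |μ| + C₁ + 1))) + a * (|μ| * R) := by ring
    rw [this]
    linarith
  exact le_of_mul_le_mul_left h9 (by positivity)

end K781.Lat3
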