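import Groth.Agent.ShStab.K781.Lat4

/-!
# The lattice theoretic part of the restriction theorem (namespace `K781.Lat5`)
-/

set_option autoImplicit false
set_option linter.unusedSectionVars false

namespace K781.Lat5

open K781.Lat K781.Lat2 K781.Lat3 K781.Lat4

section final

variable {L : Type*} [Lattice L] [BoundedOrder L] [IsModularLattice L] [WellFoundedGT L] {r m δ : L → ℚ}
  {h : L → L} (N : Num r m δ h) {K : L} (hK : RSat N K)
  {μ M R C₄ CR : ℚ} {a s C₁ : ℕ} {F : L} (hμ : ∀ A, h ⊤ ≤ A → μ * (m ⊤ - m A) ≤ δ ⊤ - δ A)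
  (hR : r ⊤ ≤ R) (hs : r ⊤ - r K = s) (hF : h^[a] ⊤ ≤ F)
  (hθ : ∀ G, h^[a] ⊤ ≤ G → δ G - (M - a / 2) * m G ≤ δ F - (M - a / 2) * m F)

include hK hμ hR hs hF hθ

/-- The last step: `F` fills `SK a`. -/
theorem eq_SK (hsat : N.sat F = F) (hFK : F ≤ SK N K a) (hw : ∀ i, C₁ ≤ i → i < a - C₁ → N.w F ⊤ i = s)
    (hCa : 2 * C₁ + 1 ≤ a) (hmR : m ⊤ - m K ≤ CR)
    (hMa : M ≤ (a : ℚ) / 2) (ha : M - a / 2 < -(C₁ * CR + C₁ * (|μ| + C₁) * R)) : F = SK N K a := by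
  have hw' : ∀ t, C₁ ≤ t → t < a → N.w F ⊤ t = s := by
    intro t ht hta
    by_cases h1 : t < a - C₁
    · exact hw t ht h1
    · apply le_antisymm
      · rw [← hw C₁ le_rfl (by omega)]
        exact N.w_antitone (N.h_le F) ⊤ ht
      · rw [← w_SK N hK hs hta]
        exact N.w_anti_left hFK ⊤ t
  have hmid : ∀ j, C₁ ≤ j → j ≤ a → m (F ⊔ h^[C₁] ⊤) - m (F ⊔ h^[j] ⊤) = (j - C₁) * s := by
    intro j hj
    induction j, hj using Nat.le_induction with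
    | base => intro _; simp
    | succ j hj' ih =>
      intro hja
      have h1 := hw' j hj' (by omega)
      unfold Num.w at h1
      have h2 := ih (by omega)
      push_cast
      linarith
  have e1 := hmid a (by omega) le_rfl
  rw [sup_eq_left.mpr hF] at e1
  have e2 := m_SK_sup N hK hs (a := a) (t := C₁) (by omega)
  have e3 := m_SK N hK a
  rw [hs] at e3
  have hjoin : SK N K a ⊔ (F ⊔ h^[C₁] ⊤) = SK N K a ⊔ h^[C₁] ⊤ := by
    rw [← sup_assoc, sup_eq_left.mpr hFK]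
  have e4 := N.m_mod (SK N K a) (F ⊔ h^[C₁] ⊤)
  have e5 := N.δ_mod (SK N K a) (F ⊔ h^[C₁] ⊤)
  rw [hjoin] at e4 e5
  have hX : SK N K a ⊓ (F ⊔ h^[C₁] ⊤) = F := by
    apply le_antisymm
    · have h1 : SK N K a ⊓ (F ⊔ h^[C₁] ⊤) ≤ N.sat F := by
        refine N.sat_max (le_inf hFK le_sup_left) ?_ ?_
        · rw [N.r_of_top hF]
          exact N.r_of_top (i := a) (le_inf (hp_le_SK N a) (hF.trans le_sup_left))
        · linarith
      rwa [hsat] at h1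
    · exact le_inf hFK le_sup_left
  rw [hX] at e5
  -- estimates
  have e6 : δ (K ⊔ h^[C₁] ⊤) ≤ δ (SK N K a ⊔ h^[C₁] ⊤) := by
    refine N.δ_mono (sup_le_sup_right (K_le_SK N a) _) ?_ ?_
    · exact (N.r_of_top (i := C₁) le_sup_right).trans (N.r_of_top (i := C₁) le_sup_right).symm
    · rw [e2, m_K_hp N hK C₁ le_top, hs]
  rw [δ_K_hp N hK C₁ le_top, hs] at e6
  have e7 := lower_crude N hμ hR F (Nat.zero_le C₁)
  rw [Function.iterate_zero, id, sup_top_eq] at e7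
  have hs0 : (0 : ℚ) ≤ s := by positivity
  have hc0 : (0 : ℚ) ≤ C₁ := by positivity
  have e8 : (C₁ : ℚ) * (m ⊤ - m K) ≤ C₁ * CR := mul_le_mul_of_nonneg_left hmR hc0
  have e9 : 0 ≤ (C₁ : ℚ) ^ 2 / 2 * s := by positivity
  have e10 := hθ (SK N K a) (hp_le_SK N a)
  -- `w = m (SK a) - m F`
  obtain ⟨z, hz⟩ := N.m_nat hFK ((N.r_of_top hF).trans (r_SK N a).symm)
  have hz0 : z = 0 := by
    by_contra hne
    have h1 : 1 ≤ z := Nat.one_le_iff_ne_zero.mpr hne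
    have h2 : (1 : ℚ) ≤ z := by exact_mod_cast h1
    push_cast at e7
    have e11 : (M - a / 2) * z ≤ M - a / 2 := by nlinarith
    have e12 : δ (SK N K a) - δ F ≤ (M - a / 2) * z := by rw [← hz]; linarith
    have e13 : -(C₁ * CR + C₁ * (|μ| + C₁) * R) ≤ δ (SK N K a) - δ F := by linarith
    linarith
  rw [hz0] at hz
  apply le_antisymm hFK
  have h1 : SK N K a ≤ N.sat F := by
    refine N.sat_max hFK ((r_SK N a).trans (N.r_of_top hF).symm) ?_
    push_cast at hz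
    linarith
  rwa [hsat] at h1

end final

/-- `C₁`. -/
noncomputable def C1 (M μ R : ℚ) : ℕ := ⌊4 * (|M| + |μ|) * R⌋₊ + 1

theorem C1_lt {M μ R : ℚ} : 4 * (|M| + |μ|) * R < C1 M μ R := by
  unfold C1
  push_cast
  exact Nat.lt_floor_add_one _

/-- The threshold for `a`. -/
noncomputable def thr (R M μ C₁₃ C₄ CR : ℚ) : ℚ :=
  ⌈C₁₃⌉₊ + 1 + |M| + |μ| + ⌈8 * (CR + |μ| * R + C₄)⌉₊ + C₄ +
    ⌈8 * (CR + |μ| * R + C₄)⌉₊ * (CR + |μ| * R) + (C1 M μ R * CR + C1 M μ R * (|μ| + C1 M μ R) * R)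

/-- **The lattice theoretic part of the restriction theorem.** -/
theorem main {L : Type*} [Lattice L] [BoundedOrder L] [IsModularLattice L] [WellFoundedGT L] {r m δ : L → ℚ}
    {h : L → L} (N : Num r m δ h) {R M μ C₁₃ C₄ CR : ℚ} (hR0 : 0 ≤ R) (hC40 : 0 ≤ C₄) (hCR0 : 0 ≤ CR)
    {a s : ℕ} (hthr : 8 * thr R M μ C₁₃ C₄ CR ≤ a) (hCa : 2 * C1 M μ R + 1 ≤ a)
    {F K Kg Sn : L} (hK : RSat N K) (hμ : ∀ A, h ⊤ ≤ A → μ * (m ⊤ - m A) ≤ δ ⊤ - δ A)
    (hR : r ⊤ ≤ R) (hF : h^[a] ⊤ ≤ F)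
    (hθ : ∀ G, h^[a] ⊤ ≤ G → δ G - (M - a / 2) * m G ≤ δ F - (M - a / 2) * m F)
    (hC4 : ∀ j, δ (SK N K j) - δ (K ⊔ h^[j] ⊤) ≤ C₄) (hmR : m ⊤ - m K ≤ CR)
    (hsat : N.sat F = F) (hw : ∀ i, C1 M μ R ≤ i → i < a - C1 M μ R → N.w F ⊤ i = s) (hsR : (s : ℚ) ≤ R)
    (hKg : Kg ≤ K) (hrK : r Kg = r K) (hC : m K - m Kg ≤ C₁₃)
    (hKS : Kg ≤ Sn) (hn : h^[a - a / 4] ⊤ ≤ Sn) (hm : m Sn = m ⊤ - ((a - a / 4 : ℕ) : ℚ) * s) (hFS : F ≤ Sn)
    (hs' : r ⊤ - r K ≤ s) : F = SK N K a ∧ r ⊤ - r K = s := by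
  set c := ⌈C₁₃⌉₊ with hc
  set c' := ⌈8 * (CR + |μ| * R + C₄)⌉₊ with hc'
  set C₁ := C1 M μ R with hC₁
  have hM0 := abs_nonneg M
  have hμ0 := abs_nonneg μ
  have hc0 : (0 : ℚ) ≤ c := by positivity
  have hc'0 : (0 : ℚ) ≤ c' := by positivity
  have hC₁0 : (0 : ℚ) ≤ C₁ := by positivity
  have hA : 0 ≤ CR + |μ| * R := by positivity
  have hB : 0 ≤ (c' : ℚ) * (CR + |μ| * R) := by positivity
  have hD : 0 ≤ (C₁ : ℚ) * CR + C₁ * (|μ| + C₁) * R := by positivity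
  have hX : thr R M μ C₁₃ C₄ CR = c + 1 + |M| + |μ| + c' + C₄ + c' * (CR + |μ| * R) +
    (C₁ * CR + C₁ * (|μ| + C₁) * R) := rfl
  rw [hX] at hthr
  have hcC : C₁₃ ≤ c := Nat.le_ceil _
  have hcC' : 8 * (CR + |μ| * R + C₄) ≤ c' := Nat.le_ceil _
  have ha0 : (0 : ℚ) < a := by linarith
  have hn1 : (3 : ℚ) / 4 * a ≤ ((a - a / 4 : ℕ) : ℚ) := by
    have h1 : 3 * a ≤ 4 * (a - a / 4) := by omega
    have h2 : (3 : ℚ) * a ≤ 4 * ((a - a / 4 : ℕ) : ℚ) := by exact_mod_cast h1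
    linarith
  have hcn : c ≤ a - a / 4 := by
    have : (c : ℚ) ≤ ((a - a / 4 : ℕ) : ℚ) := by linarith
    exact_mod_cast this
  obtain ⟨hs, hmS⟩ := rank_eq N hK hKg hrK hC hKS hn hm (by linarith) hs'
  have h1 := le_SK_of_le N hK hFS hn hs hmS (c := c) (by linarith) hcn
  -- the first estimate
  have hr1 : r F = r ⊤ := N.r_of_top hF
  have hΦ : ∀ {n : ℕ}, n ≤ a → F ≤ SK N K n →
      ((n : ℚ) - a / 2 + M - μ) * (m (SK N K a ⊔ F) - m (SK N K a)) ≤ C₄ + (a - n) * (CR + |μ| * R) := by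
    intro n hn' hFn
    refine (ineq N hK hμ hs hF hθ hC4 hn' hFn).trans ?_
    have e1 : (0 : ℚ) ≤ a - n := by
      have : (n : ℚ) ≤ a := by exact_mod_cast hn'
      linarith
    have e2 : (m ⊤ - m K) - s / 2 - μ * s ≤ CR + |μ| * R := by
      have e3 : (0 : ℚ) ≤ s := by positivity
      have e4 := neg_abs_le μ
      have e5 := mul_le_mul_of_nonneg_right e4 e3
      have e6 := mul_le_mul_of_nonneg_left hsR hμ0
      linarith
    have := mul_le_mul_of_nonneg_left e2 e1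
    linarith
  set Φ := m (SK N K a ⊔ F) - m (SK N K a) with hΦdef
  have hrSK : r (SK N K a ⊔ F) = r (SK N K a) := by
    rw [r_SK N a]
    exact N.r_of_top (i := a) (hF.trans le_sup_right)
  obtain ⟨z, hz⟩ := N.m_nat (A := SK N K a) (B := SK N K a ⊔ F) le_sup_left hrSK.symm
  have hz' : Φ = z := hz
  have hΦ0 : 0 ≤ Φ := by rw [hz']; positivity
  have h2 := hΦ (Nat.sub_le _ _ |>.trans (Nat.sub_le _ _)) h1
  rw [Nat.cast_sub hcn] at h2
  have h3 : Φ ≤ 8 * (CR + |μ| * R + C₄) := by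
    have e1 : (a : ℚ) / 8 ≤ ((a - a / 4 : ℕ) : ℚ) - c - a / 2 + M - μ := by
      have := neg_abs_le M
      have := le_abs_self μ
      linarith
    have e2 := mul_le_mul_of_nonneg_right e1 hΦ0
    have e3 : ((a : ℚ) - (((a - a / 4 : ℕ) : ℚ) - c)) * (CR + |μ| * R) ≤ a * (CR + |μ| * R) := by
      apply mul_le_mul_of_nonneg_right _ hA
      linarith
    have e4 : (1 : ℚ) ≤ a := by linarith
    have e5 : C₄ ≤ a * C₄ := by nlinarith
    have e6 : (a : ℚ) / 8 * Φ ≤ a / 8 * (8 * (CR + |μ| * R + C₄)) := by linarith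
    exact le_of_mul_le_mul_left e6 (by positivity)
  -- nilpotency
  have h4 : h^[c'] F ≤ SK N K a := by
    have e1 := N.nilp (G := SK N K a) (A := F) (N.h_le _) (n := a)
      ((N.hp_mono a le_top).trans (hp_le_SK N a)) (c := c') (by linarith)
    rwa [show N.sat (SK N K a) = SK N K a from N.sat_sat _] at e1
  have hc'a : c' ≤ a := by
    have : (c' : ℚ) ≤ a := by linarith
    exact_mod_cast this
  have h5 := le_SK_of_hp_le N hK hc'a h4
  have h6 := hΦ (Nat.sub_le _ _) h5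
  rw [Nat.cast_sub hc'a] at h6
  have h7 : Φ < 1 := by
    by_contra hcon
    rw [not_lt] at hcon
    have e1 : 0 ≤ (a : ℚ) - c' - a / 2 + M - μ := by
      have := neg_abs_le M
      have := le_abs_self μ
      linarith
    have e2 := mul_le_mul_of_nonneg_left hcon e1
    have e3 := neg_abs_le M
    have e4 := le_abs_self μ
    linarith
  have h8 : F ≤ SK N K a := by
    have e1 : z = 0 := by
      rw [hz'] at h7
      have : z < 1 := by exact_mod_cast h7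
      omega
    have e2 : SK N K a ⊔ F ≤ N.sat (SK N K a) := by
      refine N.sat_max le_sup_left hrSK ?_
      rw [e1] at hz
      push_cast at hz
      linarith
    rw [show N.sat (SK N K a) = SK N K a from N.sat_sat _] at e2
    exact le_sup_right.trans e2
  have e3 := neg_abs_le M
  have e4 := le_abs_self M
  exact ⟨eq_SK N hK hμ hR hs hF hθ hsat h8 hw hCa hmR (by linarith) (by linarith), hs⟩

end K781.Lat5
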