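import Groth.Agent.ShStab.K781.Lat5
import Groth.Agent.ShStab.K847.PolyOrd

/-!
# Lattices with a polynomial valuation and multiplication by a linear form (namespace `K781.PLat`)
-/

set_option autoImplicit false
set_option linter.unusedSectionVars false

open Polynomial StabCat

namespace K781.PLat

open K781.Lat K847.PolyOrd

/-- The axioms satisfied by the Hilbert polynomials of the coherent submodules of a coherent module `E` of dimension
at most `g + 2` on `P^n` and by `A ↦ h A`, `h` an `E`-regular linear form. -/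
structure PL {L : Type*} [Lattice L] [BoundedOrder L] (P : L → ℚ[X]) (h : L → L) (g : ℕ) : Prop where
  mod : ∀ A B, P (A ⊔ B) + P (A ⊓ B) = P A + P B
  bot : P ⊥ = 0
  mono : ∀ {A B}, A ≤ B → PolyLE (P A) (P B)
  eq : ∀ {A B}, A ≤ B → P A = P B → A = B
  deg : (P ⊤).natDegree ≤ g + 2
  int : ∀ {A B} {j : ℕ}, A ≤ B → (P B - P A).natDegree ≤ j → ∃ z : ℤ, alpha j (P B - P A) = z
  disc : ∃ N : ℕ, 0 < N ∧ ∀ A, ∃ z : ℤ, N * alpha g (P A) = z
  h_le : ∀ A, h A ≤ A
  h_iff : ∀ {A B}, h A ≤ h B ↔ A ≤ B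
  h_surj : ∀ {B}, B ≤ h ⊤ → ∃ A, h A = B
  h_P : ∀ A, P (h A) = (P A).comp (X - C 1)

section poly

theorem natDegree_le_of_nonneg {P Q : ℚ[X]} (hP : 0 ≤ P.leadingCoeff) (hQ : 0 ≤ Q.leadingCoeff) :
    P.natDegree ≤ (P + Q).natDegree := by
  by_contra hcon
  rw [not_le] at hcon
  have hP0 : P ≠ 0 := by
    rintro rfl
    simp at hcon
  have hP' : 0 < P.leadingCoeff := lt_of_le_of_ne hP (leadingCoeff_ne_zero.mpr hP0).symm
  have h1 : (P + Q).coeff P.natDegree = 0 := coeff_eq_zero_of_natDegree_lt hcon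
  rw [coeff_add] at h1
  have h2 : Q.coeff P.natDegree < 0 := by
    have : P.coeff P.natDegree = P.leadingCoeff := rfl
    linarith
  have h3 : P.natDegree ≤ Q.natDegree := le_natDegree_of_ne_zero h2.ne
  rcases h3.lt_or_eq with h4 | h4
  · have h5 : (P + Q).coeff Q.natDegree = 0 := coeff_eq_zero_of_natDegree_lt (hcon.trans h4)
    rw [coeff_add, coeff_eq_zero_of_natDegree_lt h4, zero_add] at h5
    have h6 : Q = 0 := leadingCoeff_eq_zero.mp h5
    rw [h6] at h2
    simp at h2
  · rw [h4] at h2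
    exact absurd hQ (not_le.mpr h2)

theorem alpha_comp_0 {P : ℚ[X]} {g : ℕ} (hP : P.natDegree ≤ g + 2) (c : ℚ) :
    alpha (g + 2) (P.comp (X - C c)) = alpha (g + 2) P := by
  have h1 : P.comp (X - C c) = taylor (-c) P := by rw [taylor_apply, C_neg, sub_eq_add_neg]
  unfold alpha
  rw [h1, taylor_coeff, eval_eq_sum_range' (n := 1)]
  · rw [Finset.sum_range_one, hasseDeriv_coeff]
    simp
  · have := natDegree_hasseDeriv_le P (g + 2)
    omega

theorem alpha_comp_1 {P : ℚ[X]} {g : ℕ} (hP : P.natDegree ≤ g + 2) (c : ℚ) :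
    alpha (g + 1) (P.comp (X - C c)) = alpha (g + 1) P - c * alpha (g + 2) P := by
  have h1 : P.comp (X - C c) = taylor (-c) P := by rw [taylor_apply, C_neg, sub_eq_add_neg]
  unfold alpha
  rw [h1, taylor_coeff, eval_eq_sum_range' (n := 2)]
  · rw [Finset.sum_range_succ, Finset.sum_range_one, hasseDeriv_coeff, hasseDeriv_coeff]
    simp only [zero_add, Nat.choose_self, Nat.cast_one, one_mul, pow_zero, mul_one, pow_one]
    rw [add_comm 1 (g + 1), Nat.choose_succ_self_right, Nat.factorial_succ (g + 1)]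
    push_cast
    ring
  · have := natDegree_hasseDeriv_le P (g + 1)
    omega

theorem alpha_comp_2 {P : ℚ[X]} {g : ℕ} (hP : P.natDegree ≤ g + 2) (c : ℚ) :
    alpha g (P.comp (X - C c)) = alpha g P - c * alpha (g + 1) P + c ^ 2 / 2 * alpha (g + 2) P := by
  have h1 : P.comp (X - C c) = taylor (-c) P := by rw [taylor_apply, C_neg, sub_eq_add_neg]
  unfold alpha
  rw [h1, taylor_coeff, eval_eq_sum_range' (n := 3)]
  · rw [Finset.sum_range_succ, Finset.sum_range_succ, Finset.sum_range_one, hasseDeriv_coeff, hasseDeriv_coeff,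
      hasseDeriv_coeff]
    simp only [zero_add, Nat.choose_self, Nat.cast_one, one_mul, pow_zero, mul_one, pow_one]
    have h2 : ((2 + g).choose g : ℚ) = (g + 2) * (g + 1) / 2 := by
      rw [add_comm 2 g, Nat.choose_symm_add (a := g) (b := 2), Nat.cast_choose_two]
      push_cast
      ring
    rw [add_comm 1 g, Nat.choose_succ_self_right, h2, add_comm 2 g, Nat.factorial_succ (g + 1), Nat.factorial_succ g]
    push_cast
    ring
  · have := natDegree_hasseDeriv_le P g
    omega

end poly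

namespace PL

variable {L : Type*} [Lattice L] [BoundedOrder L] {P : L → ℚ[X]} {h : L → L} {g : ℕ} (H : PL P h g)

include H

theorem lc {A B : L} (hAB : A ≤ B) : 0 ≤ (P B - P A).leadingCoeff := polyLE_iff.mp (H.mono hAB)

theorem natDegree_mono {A B : L} (hAB : A ≤ B) : (P A).natDegree ≤ (P B).natDegree := by
  have h1 := H.lc (bot_le : ⊥ ≤ A)
  rw [H.bot, sub_zero] at h1
  have h2 := natDegree_le_of_nonneg h1 (H.lc hAB)
  rwa [add_sub_cancel] at h2

theorem natDegree_le (A : L) : (P A).natDegree ≤ g + 2 := (H.natDegree_mono le_top).trans H.deg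

theorem natDegree_sub {A B : L} : (P B - P A).natDegree ≤ g + 2 :=
  (Polynomial.natDegree_sub_le _ _).trans (max_le (H.natDegree_le B) (H.natDegree_le A))

omit [Lattice L] [BoundedOrder L] H in
theorem natDegree_lt_of_alpha {A B : L} {e : ℕ} (hd : (P B - P A).natDegree ≤ e + 1)
    (ha : alpha (e + 1) (P A) = alpha (e + 1) (P B)) : (P B - P A).natDegree ≤ e := by
  have h1 : (P B - P A).coeff (e + 1) = 0 := by
    have h2 : alpha (e + 1) (P B - P A) = 0 := by rw [alpha_sub, ha, sub_self]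
    unfold alpha at h2
    have h3 : ((e + 1).factorial : ℚ) ≠ 0 := by exact_mod_cast (Nat.factorial_ne_zero _)
    exact (mul_eq_zero.mp h2).resolve_left h3
  rw [natDegree_le_iff_coeff_eq_zero]
  intro N hN
  rcases Nat.lt_or_ge (e + 1) N with h4 | h4
  · exact coeff_eq_zero_of_natDegree_lt (lt_of_le_of_lt hd h4)
  · have : N = e + 1 := by omega
    rw [this]; exact h1

theorem nonneg {A B : L} (hAB : A ≤ B) {j : ℕ} (hd : (P B - P A).natDegree ≤ j) :
    alpha j (P A) ≤ alpha j (P B) := by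
  have h1 : 0 ≤ alpha j (P B - P A) :=
    alpha_nonneg_of_polyLE hd (polyLE_iff.mpr (by rw [sub_zero]; exact H.lc hAB))
  rw [alpha_sub] at h1
  linarith

/-- The numerical axioms. -/
theorem num : Num (fun A => alpha (g + 2) (P A)) (fun A => alpha (g + 1) (P A)) (fun A => alpha g (P A)) h where
  r_mod A B := by rw [← alpha_add, H.mod, alpha_add]
  m_mod A B := by rw [← alpha_add, H.mod, alpha_add]
  δ_mod A B := by rw [← alpha_add, H.mod, alpha_add]
  r_mono hAB := H.nonneg hAB H.natDegree_sub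
  m_mono hAB hr := H.nonneg hAB (natDegree_lt_of_alpha H.natDegree_sub hr)
  δ_mono hAB hr hm := H.nonneg hAB (natDegree_lt_of_alpha (natDegree_lt_of_alpha H.natDegree_sub hr) hm)
  r_int A := by
    obtain ⟨z, hz⟩ := H.int (bot_le : ⊥ ≤ A) (j := g + 2) H.natDegree_sub
    rw [H.bot, sub_zero] at hz
    exact ⟨z, hz⟩
  m_int {A B} hAB hr := by
    obtain ⟨z, hz⟩ := H.int hAB (j := g + 1) (natDegree_lt_of_alpha H.natDegree_sub hr)
    exact ⟨z, by rw [← alpha_sub]; exact hz⟩
  h_le := H.h_le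
  h_iff := H.h_iff
  h_surj := H.h_surj
  r_h A := by rw [H.h_P, alpha_comp_0 (H.natDegree_le A)]
  m_h A := by rw [H.h_P, alpha_comp_1 (H.natDegree_le A), one_mul]
  δ_h A := by
    rw [H.h_P, alpha_comp_2 (H.natDegree_le A)]
    ring

/-- The lattice is modular. -/
theorem modular : IsModularLattice L := by
  refine ⟨fun {x} y {z} hxz => ?_⟩
  have h1 : x ⊔ y ⊓ z ≤ (x ⊔ y) ⊓ z := le_inf (sup_le_sup_left inf_le_left x) (sup_le hxz inf_le_right)
  refine (H.eq h1 ?_).ge
  have e1 := H.mod x (y ⊓ z)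
  have e2 := H.mod (x ⊔ y) z
  have e3 := H.mod x y
  have e4 := H.mod y z
  have e5 : x ⊓ (y ⊓ z) = x ⊓ y := by rw [← inf_assoc, inf_eq_left.mpr (inf_le_left.trans hxz)]
  have e6 : x ⊔ y ⊔ z = y ⊔ z := by rw [sup_comm x y, sup_assoc, sup_eq_right.mpr hxz]
  rw [e5] at e1
  rw [e6] at e2
  linear_combination e1 - e2 - e3 + e4

end PL

end K781.PLat
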