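import Groth.Agent.ShStab.K781.PLat
import Groth.Agent.ShStab.K781.Base2

/-!
# The stable case, in terms of lattices with a polynomial valuation (namespace `K781.PStab`)
-/

set_option autoImplicit false
set_option linter.unusedSectionVars false

open Polynomial StabCat

namespace K781.PStab

open K781.Lat K781.Lat2 K781.Lat3 K781.Lat4 K781.Lat5 K781.PLat K847.PolyOrd K781.Base

variable {L : Type*} [Lattice L] [BoundedOrder L] [WellFoundedGT L] {P : L → ℚ[X]} {h : L → L} {g : ℕ}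
  (H : PL P h g)

include H

theorem P_hp (i : ℕ) (A : L) : P (h^[i] A) = (P A).comp (X - C (i : ℚ)) := by
  induction i with
  | zero => simp
  | succ i ih =>
    rw [Function.iterate_succ_apply', H.h_P, ih, comp_assoc]
    congr 1
    simp only [sub_comp, X_comp, C_comp]
    push_cast
    rw [C_add]
    ring

/-- `δ - c m`. -/
noncomputable def th (P : L → ℚ[X]) (g : ℕ) (c : ℚ) (A : L) : ℚ := alpha g (P A) - c * alpha (g + 1) (P A)

/-- Existence of a maximum of `δ - c m` on the elements above `h^a ⊤`. -/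
theorem exists_max {a : ℕ} {μ c : ℚ}
    (hμ : ∀ A, h ⊤ ≤ A → μ * (alpha (g + 1) (P ⊤) - alpha (g + 1) (P A)) ≤ alpha g (P ⊤) - alpha g (P A)) :
    ∃ F, h^[a] ⊤ ≤ F ∧ ∀ G, h^[a] ⊤ ≤ G → th P g c G ≤ th P g c F := by
  have := H.modular
  set N := H.num
  obtain ⟨D, hD, hint⟩ := H.disc
  -- the normalised difference is an integer
  have hz : ∀ A, h^[a] ⊤ ≤ A → ∃ z : ℤ, (D * c.den : ℚ) * (th P g c A - th P g c (h^[a] ⊤)) = z := by
    intro A hA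
    obtain ⟨z1, hz1⟩ := hint A
    obtain ⟨z2, hz2⟩ := hint (h^[a] ⊤)
    obtain ⟨z3, hz3⟩ := N.m_int hA ((N.r_of_top (i := a) le_rfl).trans (N.r_of_top (i := a) hA).symm)
    refine ⟨c.den * (z1 - z2) - D * c.num * z3, ?_⟩
    have hc : (c.den : ℚ) * c = c.num := Rat.den_mul_eq_num c
    push_cast
    rw [← hz1, ← hz2, ← hz3, ← hc]
    unfold th
    ring
  -- upper bound
  have hub : ∃ B : ℚ, ∀ A, h^[a] ⊤ ≤ A → th P g c A - th P g c (h^[a] ⊤) ≤ B := by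
    refine ⟨th P g c ⊤ - th P g c (h^[a] ⊤) + ((a - (0 : ℕ) : ℚ) * (|μ| + a) * alpha (g + 2) (P ⊤)) +
      |c| * (a * alpha (g + 2) (P ⊤)), fun A hA => ?_⟩
    have h1 := lower_crude N hμ le_rfl A (Nat.zero_le a)
    rw [Function.iterate_zero, id, sup_top_eq, sup_eq_left.mpr hA] at h1
    have h2 : alpha (g + 1) (P A) ≤ alpha (g + 1) (P ⊤) := N.m_mono le_top (N.r_of_top hA)
    have h3 : alpha (g + 1) (P (h^[a] ⊤)) ≤ alpha (g + 1) (P A) :=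
      N.m_mono hA ((N.r_of_top (i := a) le_rfl).trans (N.r_of_top (i := a) hA).symm)
    have h4 : alpha (g + 1) (P (h^[a] ⊤)) = alpha (g + 1) (P ⊤) - a * alpha (g + 2) (P ⊤) := N.m_hp a ⊤
    have h5 : c * (alpha (g + 1) (P ⊤) - alpha (g + 1) (P A)) ≤ |c| * (a * alpha (g + 2) (P ⊤)) := by
      have h6 : c * (alpha (g + 1) (P ⊤) - alpha (g + 1) (P A)) ≤
          |c| * (alpha (g + 1) (P ⊤) - alpha (g + 1) (P A)) :=
        mul_le_mul_of_nonneg_right (le_abs_self c) (by linarith)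
      refine h6.trans (mul_le_mul_of_nonneg_left (by linarith) (abs_nonneg c))
    unfold th
    linarith
  obtain ⟨B, hB⟩ := hub
  let p : ℤ → Prop := fun z => ∃ A, h^[a] ⊤ ≤ A ∧ (D * c.den : ℚ) * (th P g c A - th P g c (h^[a] ⊤)) = z
  have hD0 : (0 : ℚ) < D * c.den := by
    have : 0 < D * c.den := Nat.mul_pos hD c.den_pos
    exact_mod_cast this
  have hbd : ∃ b : ℤ, ∀ z : ℤ, p z → z ≤ b := by
    refine ⟨⌈(D * c.den : ℚ) * B⌉, ?_⟩
    rintro z ⟨A, hA, hzA⟩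
    have h1 : (z : ℚ) ≤ (D * c.den : ℚ) * B := by
      rw [← hzA]
      exact mul_le_mul_of_nonneg_left (hB A hA) hD0.le
    have h2 : (z : ℚ) ≤ (⌈(D * c.den : ℚ) * B⌉ : ℤ) := h1.trans (Int.le_ceil _)
    exact_mod_cast h2
  obtain ⟨z, ⟨F, hF, hzF⟩, hmax⟩ := Int.exists_greatest_of_bdd hbd ⟨0, ⟨h^[a] ⊤, le_rfl, by simp⟩⟩
  refine ⟨F, hF, fun G hG => ?_⟩
  obtain ⟨z', hz'⟩ := hz G hG
  have h1 := hmax z' ⟨G, hG, hz'⟩
  have h2 : (z' : ℚ) ≤ z := by exact_mod_cast h1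
  rw [← hz', ← hzF] at h2
  have h3 := le_of_mul_le_mul_left h2 hD0
  linarith

/-- **The stable case.** -/
theorem core (hP3 : StmtPoly3) (hP4 : StmtPoly4) (hP5 : StmtPoly5) (hP6 : StmtPoly6)
    {ℓ : ℕ} (hℓ : 1 ≤ ℓ) (hℓg : ℓ ≤ g + 1) (hr0 : 0 < alpha (g + 2) (P ⊤)) {M μ C₁₃ C₄ CR : ℚ}
    (hM : M = alpha (g + 1) (P ⊤) / alpha (g + 2) (P ⊤))
    (hμ : ∀ A, h ⊤ ≤ A → μ * (alpha (g + 1) (P ⊤) - alpha (g + 1) (P A)) ≤ alpha g (P ⊤) - alpha g (P A))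
    (hC40 : 0 ≤ C₄) (hCR0 : 0 ≤ CR) (𝒮 : Set ℚ[X]) (hCR : ∀ Q ∈ 𝒮, alpha (g + 1) Q ≤ CR)
    {a : ℕ}
    (ha₀ : ∀ PK τ : ℚ[X], P ⊤ - PK ∈ 𝒮 → PK.natDegree ≤ g + 2 → 0 < alpha (g + 2) PK →
      RedLT (g + 2) (topPart ℓ (g + 2) PK) (topPart ℓ (g + 2) (P ⊤)) →
      0 ≤ τ.leadingCoeff → τ.natDegree ≤ g → (∀ i : ℕ, i + 1 ≤ g + 1 → τ.natDegree ≤ i → alpha i τ ≤ C₄) →
      (2 ≤ ℓ → RedLE (g + 1) (topPart (ℓ - 1) (g + 1) (PK - PK.comp (X - C (a : ℚ)) + τ))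
        (topPart (ℓ - 1) (g + 1) (P ⊤ - (P ⊤).comp (X - C (a : ℚ))))) →
      RedLE (g + 1) (topPart ℓ (g + 1) (PK - PK.comp (X - C (a : ℚ)) + τ))
        (topPart ℓ (g + 1) (P ⊤ - (P ⊤).comp (X - C (a : ℚ)))))
    (hthr : 8 * thr (alpha (g + 2) (P ⊤)) M μ C₁₃ C₄ CR ≤ a)
    (hCa : 16 * C1 M μ (alpha (g + 2) (P ⊤)) + 8 ≤ a) (hMa : M ≤ (a : ℚ) / 2)
    (hstab : ∀ K, 0 < alpha (g + 2) (P K) → alpha (g + 2) (P K) < alpha (g + 2) (P ⊤) →
      RedLT (g + 2) (topPart ℓ (g + 2) (P K)) (topPart ℓ (g + 2) (P ⊤)))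
    (hgeo : ∀ (F : L) (s : ℕ), h^[a] ⊤ ≤ F → (s : ℚ) ≤ alpha (g + 2) (P ⊤) →
      (∀ i, C1 M μ (alpha (g + 2) (P ⊤)) ≤ i → i < a - C1 M μ (alpha (g + 2) (P ⊤)) → H.num.w F ⊤ i = s) →
      T H.num (C1 M μ (alpha (g + 2) (P ⊤))) F s (a - a / 4 - 1) ≤
        C8 M μ (alpha (g + 2) (P ⊤)) (C1 M μ (alpha (g + 2) (P ⊤))) →
      ∃ K Kg : L, Kg ≤ K ∧ Kg ≤ S H.num (C1 M μ (alpha (g + 2) (P ⊤))) F (a - a / 4) ∧ RSat H.num K ∧
        alpha (g + 2) (P ⊤) - alpha (g + 2) (P K) ≤ s ∧ alpha (g + 2) (P Kg) = alpha (g + 2) (P K) ∧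
        alpha (g + 1) (P K) - alpha (g + 1) (P Kg) ≤ C₁₃ ∧ P ⊤ - P K ∈ 𝒮)
    (hCC : ∀ K, RSat H.num K → P ⊤ - P K ∈ 𝒮 → ∀ j A, K ⊔ h^[j] ⊤ ≤ A → ∀ c : ℕ, c ≤ g →
      (P A - P (K ⊔ h^[j] ⊤)).natDegree ≤ c → alpha c (P A - P (K ⊔ h^[j] ⊤)) ≤ C₄)
    (hpure : H.num.sat (h^[a] ⊤) = h^[a] ⊤)
    (hlow : 2 ≤ ℓ → ∀ A, h^[a] ⊤ ≤ A → 0 < alpha (g + 1) (P A) - alpha (g + 1) (P (h^[a] ⊤)) →
      alpha (g + 1) (P A) < alpha (g + 1) (P ⊤) →
      RedLE (g + 1) (topPart (ℓ - 1) (g + 1) (P A - P (h^[a] ⊤))) (topPart (ℓ - 1) (g + 1) (P ⊤ - P (h^[a] ⊤)))) :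
    ∀ A, h^[a] ⊤ ≤ A → 0 < alpha (g + 1) (P A) - alpha (g + 1) (P (h^[a] ⊤)) →
      alpha (g + 1) (P A) < alpha (g + 1) (P ⊤) →
      RedLE (g + 1) (topPart ℓ (g + 1) (P A - P (h^[a] ⊤))) (topPart ℓ (g + 1) (P ⊤ - P (h^[a] ⊤))) := by
  have hmodular := H.modular
  set N := H.num with hN
  intro A₀ hA₀ hA1 hA2
  by_contra hcon
  have ha0 : (0 : ℚ) < a := by
    have : 0 < a := by omega
    exact_mod_cast this
  have hra : alpha (g + 2) (P (h^[a] ⊤)) = alpha (g + 2) (P ⊤) := N.r_hp a ⊤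
  have hma : alpha (g + 1) (P (h^[a] ⊤)) = alpha (g + 1) (P ⊤) - a * alpha (g + 2) (P ⊤) := N.m_hp a ⊤
  have hδa : alpha g (P (h^[a] ⊤)) = alpha g (P ⊤) - a * alpha (g + 1) (P ⊤) +
      (a : ℚ) ^ 2 / 2 * alpha (g + 2) (P ⊤) := N.δ_hp a ⊤
  have hMr : alpha (g + 1) (P ⊤) = M * alpha (g + 2) (P ⊤) := by
    rw [hM, div_mul_cancel₀ _ hr0.ne']
  -- `th` at the ends
  have hend : th P g (M - a / 2) (h^[a] ⊤) = th P g (M - a / 2) ⊤ := by
    unfold th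
    rw [hma, hδa, hMr]
    ring
  -- translation of `RedLE` for `ℓ = 1`
  have htr : ∀ A, RedLE (g + 1) (topPart 1 (g + 1) (P A - P (h^[a] ⊤))) (topPart 1 (g + 1) (P ⊤ - P (h^[a] ⊤))) ↔
      th P g (M - a / 2) A ≤ th P g (M - a / 2) (h^[a] ⊤) := by
    intro A
    rw [hP3 g, alpha_sub, alpha_sub, alpha_sub, alpha_sub]
    have e1 : alpha (g + 1) (P ⊤) - alpha (g + 1) (P (h^[a] ⊤)) = a * alpha (g + 2) (P ⊤) := by rw [hma]; ring
    have e2 : alpha g (P ⊤) - alpha g (P (h^[a] ⊤)) = (M - a / 2) * (a * alpha (g + 2) (P ⊤)) := by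
      rw [hδa, hMr]; ring
    have e3 : 0 < a * alpha (g + 2) (P ⊤) := by positivity
    rw [e1, e2]
    unfold th
    constructor
    · intro h1
      have h2 : (a * alpha (g + 2) (P ⊤)) * (alpha g (P A) - alpha g (P (h^[a] ⊤))) ≤
          (a * alpha (g + 2) (P ⊤)) * ((M - a / 2) * (alpha (g + 1) (P A) - alpha (g + 1) (P (h^[a] ⊤)))) := by
        linarith
      have h3 := le_of_mul_le_mul_left h2 e3
      linarith
    · intro h1
      have h2 : alpha g (P A) - alpha g (P (h^[a] ⊤)) ≤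
          (M - a / 2) * (alpha (g + 1) (P A) - alpha (g + 1) (P (h^[a] ⊤))) := by linarith
      have h3 := mul_le_mul_of_nonneg_left h2 e3.le
      linarith
  -- the maximal element
  obtain ⟨F, hF, hsat, hmax, hFm1, hFm2, hFcon⟩ : ∃ F, h^[a] ⊤ ≤ F ∧ N.sat F = F ∧
      (∀ G, h^[a] ⊤ ≤ G → th P g (M - a / 2) G ≤ th P g (M - a / 2) F) ∧
      0 < alpha (g + 1) (P F) - alpha (g + 1) (P (h^[a] ⊤)) ∧ alpha (g + 1) (P F) < alpha (g + 1) (P ⊤) ∧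
      ¬ RedLE (g + 1) (topPart ℓ (g + 1) (P F - P (h^[a] ⊤))) (topPart ℓ (g + 1) (P ⊤ - P (h^[a] ⊤))) := by
    rcases Nat.lt_or_ge ℓ 2 with hℓ1 | hℓ2
    · obtain rfl : ℓ = 1 := by omega
      obtain ⟨F₀, hF₀, hmax₀⟩ := exists_max H (a := a) (c := M - a / 2) hμ
      have hF₀s : h^[a] ⊤ ≤ N.sat F₀ := hF₀.trans (N.le_sat F₀)
      have hth : th P g (M - a / 2) F₀ ≤ th P g (M - a / 2) (N.sat F₀) := by
        unfold th
        have e1 : alpha (g + 1) (P (N.sat F₀)) = alpha (g + 1) (P F₀) := N.m_sat F₀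
        have e2 : alpha g (P F₀) ≤ alpha g (P (N.sat F₀)) := N.δ_le_sat F₀
        rw [e1]
        linarith
      have hgt : th P g (M - a / 2) (h^[a] ⊤) < th P g (M - a / 2) (N.sat F₀) := by
        rw [htr, not_le] at hcon
        exact hcon.trans_le ((hmax₀ A₀ hA₀).trans hth)
      have hle1 : alpha (g + 1) (P (h^[a] ⊤)) ≤ alpha (g + 1) (P (N.sat F₀)) :=
        N.m_mono hF₀s (hra.trans (N.r_of_top hF₀s).symm)
      have hle2 : alpha (g + 1) (P (N.sat F₀)) ≤ alpha (g + 1) (P ⊤) := N.m_mono le_top (N.r_of_top hF₀s)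
      refine ⟨N.sat F₀, hF₀s, N.sat_sat F₀, fun G hG => (hmax₀ G hG).trans hth, ?_, ?_, ?_⟩
      · rw [sub_pos]
        refine lt_of_le_of_ne hle1 fun he => ?_
        have h1 : N.sat F₀ ≤ N.sat (h^[a] ⊤) := N.sat_max hF₀s ((N.r_of_top hF₀s).trans hra.symm) he.symm
        rw [hpure] at h1
        rw [le_antisymm h1 hF₀s] at hgt
        exact lt_irrefl _ hgt
      · refine lt_of_le_of_ne hle2 fun he => ?_
        have h1 : alpha g (P (N.sat F₀)) ≤ alpha g (P ⊤) := N.δ_mono le_top (N.r_of_top hF₀s) he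
        rw [hend] at hgt
        unfold th at hgt
        rw [he] at hgt
        linarith
      · rw [htr, not_le]
        exact hgt
    · have hFs : h^[a] ⊤ ≤ N.sat A₀ := hA₀.trans (N.le_sat A₀)
      have hms : alpha (g + 1) (P (N.sat A₀)) = alpha (g + 1) (P A₀) := N.m_sat A₀
      have hlow1 : ∀ G, h^[a] ⊤ ≤ G → th P g (M - a / 2) G ≤ th P g (M - a / 2) (h^[a] ⊤) := by
        intro G hG
        have hle1 : alpha (g + 1) (P (h^[a] ⊤)) ≤ alpha (g + 1) (P G) :=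
          N.m_mono hG (hra.trans (N.r_of_top hG).symm)
        have hle2 : alpha (g + 1) (P G) ≤ alpha (g + 1) (P ⊤) := N.m_mono le_top (N.r_of_top hG)
        rcases hle1.eq_or_lt with he | hlt
        · have h1 : G ≤ N.sat (h^[a] ⊤) := N.sat_max hG ((N.r_of_top hG).trans hra.symm) he.symm
          rw [hpure] at h1
          rw [le_antisymm h1 hG]
        · rcases hle2.eq_or_lt with he | hlt'
          · have h1 : alpha g (P G) ≤ alpha g (P ⊤) := N.δ_mono le_top (N.r_of_top hG) he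
            rw [hend]
            unfold th
            rw [he]
            linarith
          · rw [← htr]
            exact hP4 (g + 1) (ℓ - 1) 1 (by omega) _ _ (hlow hℓ2 G hG (sub_pos.mpr hlt) hlt')
      have hPle : PolyLE (P A₀ - P (h^[a] ⊤)) (P (N.sat A₀) - P (h^[a] ⊤)) := by
        refine (polyLE_congr ?_).mpr (H.mono (N.le_sat A₀))
        ring
      have hdeg : ∀ A, h^[a] ⊤ ≤ A → (P A - P (h^[a] ⊤)).natDegree ≤ g + 1 := fun A hA =>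
        PL.natDegree_lt_of_alpha H.natDegree_sub (hra.trans (N.r_of_top hA).symm)
      have hncon : ¬ RedLE (g + 1) (topPart ℓ (g + 1) (P (N.sat A₀) - P (h^[a] ⊤)))
          (topPart ℓ (g + 1) (P ⊤ - P (h^[a] ⊤))) := by
        intro h1
        refine hcon (hP6 (g + 1) ℓ _ _ _ (hdeg A₀ hA₀) (hdeg _ hFs) hPle ?_ ?_ h1)
        · rw [alpha_sub, alpha_sub, hms]
        · rw [alpha_sub, hma]
          have : 0 ≤ a * alpha (g + 2) (P ⊤) := by positivity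
          linarith
      refine ⟨N.sat A₀, hFs, N.sat_sat A₀, fun G hG => (hlow1 G hG).trans ?_, by rw [hms]; exact hA1,
        by rw [hms]; exact hA2, hncon⟩
      -- `th ≥` from the failure of `RedLE`
      have h1 := hP5 g ℓ hℓ _ _ hncon
      have h2 : RedLE (g + 1) (topPart 1 (g + 1) (P ⊤ - P (h^[a] ⊤)))
          (topPart 1 (g + 1) (P (N.sat A₀) - P (h^[a] ⊤))) := (hP3 g _ _).mpr h1
      rw [hP3 g, alpha_sub, alpha_sub, alpha_sub, alpha_sub] at h2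
      have e1 : alpha (g + 1) (P ⊤) - alpha (g + 1) (P (h^[a] ⊤)) = a * alpha (g + 2) (P ⊤) := by rw [hma]; ring
      have e2 : alpha g (P ⊤) - alpha g (P (h^[a] ⊤)) = (M - a / 2) * (a * alpha (g + 2) (P ⊤)) := by
        rw [hδa, hMr]; ring
      have e3 : 0 < a * alpha (g + 2) (P ⊤) := by positivity
      rw [e1, e2] at h2
      have h3 : (a * alpha (g + 2) (P ⊤)) *
          ((M - a / 2) * (alpha (g + 1) (P (N.sat A₀)) - alpha (g + 1) (P (h^[a] ⊤)))) ≤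
          (a * alpha (g + 2) (P ⊤)) * (alpha g (P (N.sat A₀)) - alpha g (P (h^[a] ⊤))) := by linarith
      have h4 := le_of_mul_le_mul_left h3 e3
      unfold th
      linarith
  -- the numerical part
  have hδF : alpha g (P ⊤) - alpha g (P F) ≤ (M - a / 2) * (alpha (g + 1) (P ⊤) - alpha (g + 1) (P F)) := by
    have := hmax ⊤ le_top
    unfold th at this
    linarith
  obtain ⟨s, hsR, hw⟩ := exists_const N hμ le_rfl (C₁ := C1 M μ (alpha (g + 2) (P ⊤))) C1_lt (by omega) hF hδF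
  have hT := T_le N hμ le_rfl hw hr0.le hsR hCa hF hMa hδF (j := a - a / 4 - 1) (by omega)
  obtain ⟨K, Kg, hKg, hKgS, hK, hrs, hrK, hmK, hK𝒮⟩ := hgeo F s hF hsR hw hT
  have hmS : alpha (g + 1) (P (S N (C1 M μ (alpha (g + 2) (P ⊤))) F (a - a / 4))) =
      alpha (g + 1) (P ⊤) - ((a - a / 4 : ℕ) : ℚ) * s := m_S N hw (by omega)
  have hC4' : ∀ j, alpha g (P (SK N K j)) - alpha g (P (K ⊔ h^[j] ⊤)) ≤ C₄ := by
    intro j
    rw [← alpha_sub]
    refine hCC K hK hK𝒮 j _ (N.le_sat _) g le_rfl ?_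
    exact PL.natDegree_lt_of_alpha (PL.natDegree_lt_of_alpha H.natDegree_sub (N.r_sat _).symm) (N.m_sat _).symm
  have hmR : alpha (g + 1) (P ⊤) - alpha (g + 1) (P K) ≤ CR := by
    rw [← alpha_sub]
    exact hCR _ hK𝒮
  obtain ⟨hFK, hrank⟩ := Lat5.main N (K := K) (Kg := Kg) hr0.le hC40 hCR0 hthr (by omega) hK hμ le_rfl hF
    (fun G hG => hmax G hG) hC4' hmR hsat hw hsR hKg hrK hmK hKgS (hp_le_S N _ F _) hmS (F_le_S N _ F _) hrs
  -- the ranks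
  have hmF : alpha (g + 1) (P F) = alpha (g + 1) (P ⊤) - a * (alpha (g + 2) (P ⊤) - alpha (g + 2) (P K)) := by
    conv_lhs => rw [hFK]
    exact m_SK N hK a
  have hrK0 : 0 < alpha (g + 2) (P K) := by
    rw [hmF, hma] at hFm1
    have h1 : 0 < (a : ℚ) * alpha (g + 2) (P K) := by linarith
    exact (mul_pos_iff_of_pos_left ha0).mp h1
  have hrK1 : alpha (g + 2) (P K) < alpha (g + 2) (P ⊤) := by
    rw [hmF] at hFm2
    have h1 : 0 < (a : ℚ) * (alpha (g + 2) (P ⊤) - alpha (g + 2) (P K)) := by linarith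
    have h2 := (mul_pos_iff_of_pos_left ha0).mp h1
    linarith
  -- the final comparison
  have hKh : K ⊓ h^[a] ⊤ = h^[a] K := inf_hp N hK a le_top
  have hPF : P F - P (h^[a] ⊤) = P K - (P K).comp (X - C (a : ℚ)) + (P F - P (K ⊔ h^[a] ⊤)) := by
    have e1 := H.mod K (h^[a] ⊤)
    rw [hKh, P_hp H a K] at e1
    linear_combination e1
  have hPt : P ⊤ - P (h^[a] ⊤) = P ⊤ - (P ⊤).comp (X - C (a : ℚ)) := by rw [P_hp H a ⊤]
  have hKF : K ⊔ h^[a] ⊤ ≤ F := by rw [hFK]; exact N.le_sat _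
  have hrKF : alpha (g + 2) (P (K ⊔ h^[a] ⊤)) = alpha (g + 2) (P F) := by
    conv_rhs => rw [hFK]
    exact (N.r_sat _).symm
  have hmKF : alpha (g + 1) (P (K ⊔ h^[a] ⊤)) = alpha (g + 1) (P F) := by
    conv_rhs => rw [hFK]
    exact (N.m_sat _).symm
  apply hFcon
  rw [hPF, hPt]
  refine ha₀ (P K) (P F - P (K ⊔ h^[a] ⊤)) hK𝒮 (H.natDegree_le K) hrK0 (hstab K hrK0 hrK1) (H.lc hKF) ?_ ?_ ?_
  · exact PL.natDegree_lt_of_alpha (PL.natDegree_lt_of_alpha H.natDegree_sub hrKF) hmKF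
  · intro i hi hdi
    exact hCC K hK hK𝒮 a F hKF i (by omega) hdi
  · intro hℓ2
    have h1 := hlow hℓ2 F hF hFm1 hFm2
    rwa [hPF, hPt] at h1

end K781.PStab
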