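import Groth.Agent.ShStab.K781.Base2
import Groth.Agent.ShStab.K849.TopPart
import Groth.Agent.ShStab.K847.PolyOrd

/-!
# Comparison of truncated polynomials (namespace `K781.Poly`)
-/

set_option autoImplicit false

open Polynomial StabCat

namespace K781.Poly

open K849.TopPart K847.PolyOrd K781.Base

theorem topPart_sub (ℓ d : ℕ) (P Q : ℚ[X]) : topPart ℓ d (P - Q) = topPart ℓ d P - topPart ℓ d Q := by
  ext n
  rw [coeff_sub, coeff_topPart, coeff_topPart, coeff_topPart]
  split_ifs <;> simp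

theorem redLE_top_iff (d ℓ : ℕ) (P Q : ℚ[X]) : RedLE d (topPart ℓ d P) (topPart ℓ d Q) ↔
    0 ≤ (topPart ℓ d (alpha d P • Q - alpha d Q • P)).leadingCoeff := by
  rw [redLE_iff, alpha_topPart, alpha_topPart, topPart_sub, topPart_smul, topPart_smul]

theorem natDegree_topPart_le (ℓ d : ℕ) (P : ℚ[X]) : (topPart ℓ d P).natDegree ≤ d := by
  rw [natDegree_le_iff_coeff_eq_zero]
  intro n hn
  rw [coeff_topPart, if_neg (by omega)]

theorem coeff_cr (d : ℕ) (P Q : ℚ[X]) : (alpha d P • Q - alpha d Q • P).coeff d = 0 := by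
  rw [coeff_sub, coeff_smul, coeff_smul, smul_eq_mul, smul_eq_mul]
  unfold alpha
  ring

theorem coeff_top (ℓ g : ℕ) (hℓ : 1 ≤ ℓ) (R : ℚ[X]) : (topPart ℓ (g + 1) R).coeff g = R.coeff g := by
  rw [coeff_topPart, if_pos ⟨by omega, by omega⟩]

theorem coeff_iff (g : ℕ) (P Q : ℚ[X]) : 0 ≤ (alpha (g + 1) P • Q - alpha (g + 1) Q • P).coeff g ↔
    alpha (g + 1) Q * alpha g P ≤ alpha (g + 1) P * alpha g Q := by
  have h0 : (0 : ℚ) < (g.factorial : ℚ) := by exact_mod_cast Nat.factorial_pos g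
  rw [coeff_sub, coeff_smul, coeff_smul, smul_eq_mul, smul_eq_mul, sub_nonneg, ← mul_le_mul_iff_of_pos_left h0]
  unfold alpha
  constructor <;> intro h <;> linarith

theorem coeff_iff_lt (g : ℕ) (P Q : ℚ[X]) : 0 < (alpha (g + 1) P • Q - alpha (g + 1) Q • P).coeff g ↔
    alpha (g + 1) Q * alpha g P < alpha (g + 1) P * alpha g Q := by
  have h0 : (0 : ℚ) < (g.factorial : ℚ) := by exact_mod_cast Nat.factorial_pos g
  rw [coeff_sub, coeff_smul, coeff_smul, smul_eq_mul, smul_eq_mul, sub_pos, ← mul_lt_mul_iff_of_pos_left h0]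
  unfold alpha
  constructor <;> intro h <;> linarith

theorem stmtPoly3 : StmtPoly3 := by
  intro g P Q
  rw [redLE_top_iff, ← coeff_iff]
  set R := alpha (g + 1) P • Q - alpha (g + 1) Q • P with hR
  have h1 := polyLE_iff_coeff (P := topPart 1 (g + 1) R) (e := g) (fun n hn => by
    rw [coeff_topPart]
    split_ifs with h
    · have : n = g + 1 := by omega
      rw [this, hR]
      exact coeff_cr _ _ _
    · rfl)
  rw [polyLE_iff, sub_zero, coeff_top 1 g le_rfl] at h1
  exact h1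

theorem topPart_topPart {d ℓ ℓ' : ℕ} (h : ℓ' ≤ ℓ) (R : ℚ[X]) : topPart ℓ' d (topPart ℓ d R) = topPart ℓ' d R := by
  ext n
  rw [coeff_topPart, coeff_topPart, coeff_topPart]
  split_ifs with h1 h2
  · rfl
  · exact absurd ⟨by omega, h1.2⟩ h2
  · rfl

theorem stmtPoly4 : StmtPoly4 := by
  intro e ℓ ℓ' hℓ P Q
  rw [redLE_top_iff, redLE_top_iff]
  intro h
  set R := alpha e P • Q - alpha e Q • P with hR
  have h1 : PolyLE 0 (topPart ℓ e R) := polyLE_iff.mpr (by rw [sub_zero]; exact h)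
  have h2 := polyLE_topPart (ℓ := ℓ') (natDegree_topPart_le ℓ e R) h1
  rw [topPart_topPart hℓ] at h2
  have h3 := polyLE_iff.mp h2
  rwa [sub_zero] at h3

theorem stmtPoly5 : StmtPoly5 := by
  intro g ℓ hℓ P Q h
  by_contra hcon
  rw [not_le, ← coeff_iff_lt] at hcon
  apply h
  rw [redLE_top_iff]
  set R := alpha (g + 1) P • Q - alpha (g + 1) Q • P with hR
  rw [← coeff_top ℓ g hℓ] at hcon
  refine (leadingCoeff_pos_of_coeff_pos ?_ hcon).le
  rw [natDegree_le_iff_coeff_eq_zero]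
  intro n hn
  rw [coeff_topPart]
  split_ifs with h
  · have : n = g + 1 := by omega
    rw [this, hR]
    exact coeff_cr _ _ _
  · rfl

theorem stmtPoly6 : StmtPoly6 := by
  intro e ℓ P P' Q hP hP' hle ha hQ h
  rw [redLE_top_iff] at h ⊢
  have h1 : PolyLE 0 (topPart ℓ e (alpha e P' • Q - alpha e Q • P')) := polyLE_iff.mpr (by rw [sub_zero]; exact h)
  have h2 : PolyLE 0 (P' - P) := by
    have := polyLE_iff.mp hle
    exact polyLE_iff.mpr (by rw [sub_zero]; exact this)
  have h3 : PolyLE 0 (topPart ℓ e (P' - P)) :=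
    polyLE_topPart ((natDegree_sub_le _ _).trans (max_le hP' hP)) h2
  have h4 : PolyLE 0 (alpha e Q • topPart ℓ e (P' - P)) := by
    obtain ⟨N, hN⟩ := h3
    refine ⟨N, fun m hm => ?_⟩
    have h5 := hN m hm
    rw [eval_zero] at h5 ⊢
    rw [eval_smul, smul_eq_mul]
    exact mul_nonneg hQ h5
  have h5 : topPart ℓ e (alpha e P • Q - alpha e Q • P) =
      topPart ℓ e (alpha e P' • Q - alpha e Q • P') + alpha e Q • topPart ℓ e (P' - P) := by
    rw [← topPart_smul, ← topPart_add, ha]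
    congr 1
    rw [smul_sub]
    ring
  have h6 : PolyLE 0 (topPart ℓ e (alpha e P • Q - alpha e Q • P)) := by
    rw [h5]
    obtain ⟨N, hN⟩ := h1
    obtain ⟨N', hN'⟩ := h4
    refine ⟨max N N', fun m hm => ?_⟩
    have a1 := hN m ((le_max_left _ _).trans hm)
    have a2 := hN' m ((le_max_right _ _).trans hm)
    rw [eval_zero] at a1 a2 ⊢
    rw [eval_add]
    linarith
  have h7 := polyLE_iff.mp h6
  rwa [sub_zero] at h7

end K781.Poly
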