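import Groth.Agent.ShStab.K781.Inst2

/-!
# The stable case of the restriction theorem on projective space (namespace `K781.Stab`)
-/

set_option autoImplicit false
universe u
open CategoryTheory CategoryTheory.Limits AlgebraicGeometry TopologicalSpace Polynomial

namespace K781.Stab

open Groth.Agent Groth.Agent.Fga.RegSec Groth.Agent.Fga.PicMon ShStab StabCat K847.Pn K847.GL
  Groth.Agent.FormalA.HHLin K781.Base K781.Cat K781.Cat2 K781.PLat K846.CSub K781.Inst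

theorem exists_CR (g : ℕ) {𝒮 : Set ℚ[X]} (h𝒮 : 𝒮.Finite) : ∃ CR : ℚ, 0 ≤ CR ∧ ∀ Q ∈ 𝒮, alpha (g + 1) Q ≤ CR := by
  obtain ⟨c, hc⟩ := (h𝒮.image (fun Q => alpha (g + 1) Q)).bddAbove
  exact ⟨max 0 c, le_max_left _ _, fun Q hQ => (hc ⟨Q, hQ, rfl⟩).trans (le_max_right _ _)⟩

variable {k : Type u} [Field k] {n : ℕ}

/-- The lower bound for the slopes of the quotients of `E / h E`. -/
theorem slope_bound (hMin : StmtMin.{u}) [Infinite k] {E : (CohB1.ProjSpace n k).Modules} [hcoh : Fact (Coh.IsCoh E)]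
    {g : ℕ} (hd : DimLE E (g + 2)) : ∃ μ : ℚ,
    ∀ (s : Coh.structureModule (CohB1.ProjSpace n k) ⟶ O k n 1) [Mono ((nu s).app E)] (A : CSub E), hC s ⊤ ≤ A →
      μ * (alpha (g + 1) (PC (⊤ : CSub E)) - alpha (g + 1) (PC A)) ≤
        alpha g (PC (⊤ : CSub E)) - alpha g (PC A) := by
  obtain ⟨b, ρ, q, hb, hq⟩ := K774.NodeK.exists_fr k hcoh.out
  obtain ⟨μ, hμ⟩ := hMin n b hb ρ g (alpha (g + 2) (PC (⊤ : CSub E)))
  refine ⟨μ, fun s _ A hA => ?_⟩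
  have H := pl s hd
  set N := H.num with hN
  have hc : Coh.IsCoh (cokernel A.1.arrow) := Sga67.CohBasic.isCoh_cokernel _ A.2.1 hcoh.out
  have hP : HP k (cokernel A.1.arrow) (PC (⊤ : CSub E) - PC A) :=
    K774.NodeK.HP_coker k _ A.2 hcoh.out (HP_PC A) HP_top
  have hr : alpha (g + 2) (PC A) = alpha (g + 2) (PC (⊤ : CSub E)) := N.r_of_top (i := 1) hA
  have hdeg : (PC (⊤ : CSub E) - PC A).natDegree ≤ g + 1 :=
    PL.natDegree_lt_of_alpha (P := PC) H.natDegree_sub hr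
  have hm : alpha (g + 1) (PC (⊤ : CSub E) - PC A) ≤ alpha (g + 2) (PC (⊤ : CSub E)) := by
    rw [K847.PolyOrd.alpha_sub]
    have h1 : alpha (g + 1) (PC (hC s (⊤ : CSub E))) ≤ alpha (g + 1) (PC A) :=
      N.m_mono hA ((N.r_of_top (i := 1) le_rfl).trans hr.symm)
    have h2 : alpha (g + 1) (PC (hC s (⊤ : CSub E))) =
        alpha (g + 1) (PC (⊤ : CSub E)) - alpha (g + 2) (PC (⊤ : CSub E)) := N.m_h ⊤
    linarith
  have hdim : DimLE (cokernel A.1.arrow) (g + 1) := by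
    by_cases h0 : IsZero (cokernel A.1.arrow)
    · have h1 := K847.HilbBasic.dim_support_isZero h0
      unfold DimLE
      rw [h1]
      exact bot_le
    · have h1 := facts.dim (cokernel A.1.arrow) hc h0
      rw [Coherent.K51.HPDict.hp_eq hc hP] at h1
      unfold DimLE
      rw [h1]
      exact_mod_cast hdeg
  have hq' : Epi (q ≫ cokernel.π A.1.arrow) := epi_comp _ _
  have h1 := hμ k (cokernel A.1.arrow) (q ≫ cokernel.π A.1.arrow) hc hq' hdim _ hP hm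
  rwa [K847.PolyOrd.alpha_sub, K847.PolyOrd.alpha_sub] at h1

/-- **The stable case.** -/
theorem stmtStab (hTrans : StmtTrans.{u}) (hPure : StmtPure.{u}) (hGeo : StmtGeo.{u}) (hCC : StmtCC.{u})
    (hMin : StmtMin.{u}) (hP2 : StmtPoly2) (hP3 : StmtPoly3) (hP4 : StmtPoly4) (hP5 : StmtPoly5) (hP6 : StmtPoly6) :
    StmtStab.{u} := by
  intro k _ _ n d ℓ hℓ hℓd E hE hlow
  obtain ⟨g, rfl⟩ : ∃ g, d = g + 2 := ⟨d - 2, by omega⟩
  have hcoh : Fact (Coh.IsCoh E) := ⟨hE.1⟩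
  have hpE := hE.2.2.1
  have hdim : DimLE E (g + 2) := dim_le_of_isPure hE.1 hpE
  have hr0 : 0 < alpha (g + 2) (PC (⊤ : CSub E)) :=
    K847.HilbBasic.alpha_pos k (isAmple_O_one k n) hE.1 (K847.StabBasic.dim_support_eq_of_isPure hE.1 hE.2.1 hpE)
      (isHilbPoly_of_HP k HP_top)
  set r := alpha (g + 2) (PC (⊤ : CSub E)) with hr
  set M := alpha (g + 1) (PC (⊤ : CSub E)) / r with hM
  obtain ⟨μ, hμ⟩ := slope_bound hMin hdim
  obtain ⟨C₁₃, 𝒮, h𝒮, hgeo⟩ := hGeo k n g E hpE (Lat3.C8 M μ r (Lat5.C1 M μ r))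
  obtain ⟨C₄, hC40, hcc⟩ := hCC k n g E hdim 𝒮 h𝒮
  obtain ⟨CR, hCR0, hCR⟩ := exists_CR g h𝒮
  have hdegE : (PC (⊤ : CSub E)).natDegree ≤ g + 2 := K774.NodeK.natDegree_le_of_dimLE k hE.1 hdim HP_top
  obtain ⟨a₁, ha₁⟩ := hP2 (g + 1) ℓ hℓ (by omega) (PC (⊤ : CSub E)) hdegE hr0 𝒮 h𝒮 C₄
  obtain ⟨Z, hZ, hpure⟩ := hPure k n g E hpE
  -- the restriction theorem for `ℓ - 1`
  obtain ⟨Z₂, hZ₂, a₂, hlow'⟩ : ∃ Z₂ : Set (CohB1.ProjSpace n k), Z₂.Finite ∧ ∃ a₂ : ℕ, 2 ≤ ℓ → ∀ a : ℕ, a₂ ≤ a →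
      ∀ h : Coh.structureModule (CohB1.ProjSpace n k) ⟶ O k n 1, Z₂ ⊆ CohB1.genLocus (O k n 1) h →
        IsEllSemistable k (CohB1.ProjSpace n k) (O k n 1) (cokernel (mulI h a E)) (g + 1) (ℓ - 1) := by
    by_cases h2 : 2 ≤ ℓ
    · obtain ⟨Z₂, hZ₂, a₂, h⟩ := hlow h2
      exact ⟨Z₂, hZ₂, a₂, fun _ => h⟩
    · exact ⟨∅, Set.finite_empty, 0, fun h => absurd h h2⟩
  let a₃ : ℕ := max (max a₁ a₂) (max ⌈8 * Lat5.thr r M μ C₁₃ C₄ CR⌉₊ (max (16 * Lat5.C1 M μ r + 8) ⌈2 * M⌉₊))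
  refine ⟨Z ∪ Z₂, hZ.union hZ₂, a₃, fun a ha s hs => ?_⟩
  have e1 : a₁ ≤ a := ((le_max_left _ _).trans (le_max_left _ _)).trans ha
  have e2 : a₂ ≤ a := ((le_max_right _ _).trans (le_max_left _ _)).trans ha
  have e3 : ⌈8 * Lat5.thr r M μ C₁₃ C₄ CR⌉₊ ≤ a := ((le_max_left _ _).trans (le_max_right _ _)).trans ha
  have e4 : 16 * Lat5.C1 M μ r + 8 ≤ a :=
    (((le_max_left _ _).trans (le_max_right _ _)).trans (le_max_right _ _)).trans ha
  have e5 : ⌈2 * M⌉₊ ≤ a := (((le_max_right _ _).trans (le_max_right _ _)).trans (le_max_right _ _)).trans ha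
  obtain ⟨hmono, hpa⟩ := hpure s (Set.subset_union_left.trans hs)
  have H := pl s hdim
  have hpure' : H.num.sat ((hC s)^[a] (⊤ : CSub E)) = (hC s)^[a] ⊤ :=
    le_antisymm (hpa a _ (H.num.le_sat _) (H.num.m_sat _)) (H.num.le_sat _)
  have ha0 : (0 : ℚ) < a := by
    have : 0 < a := by omega
    exact_mod_cast this
  refine (hTrans k n g ℓ E hdim s a).mpr ⟨?_, hpa a, ?_⟩
  · intro he
    have h1 : alpha (g + 1) (PC ((hC s)^[a] (⊤ : CSub E))) = alpha (g + 1) (PC (⊤ : CSub E)) - a * r := H.num.m_hp a ⊤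
    rw [he] at h1
    have h2 : 0 < a * r := mul_pos ha0 hr0
    linarith
  · refine PStab.core H hP3 hP4 hP5 hP6 (C₁₃ := C₁₃) hℓ (by omega) hr0 hM (fun A hA => hμ s A hA) hC40 hCR0 𝒮 hCR
      (a := a) (fun PK τ h1 h2 h3 h4 h5 h6 h7 h8 => ha₁ a e1 PK τ h1 h2 h3 h4 h5 h6 h7 h8)
      ((Nat.le_ceil _).trans (by exact_mod_cast e3)) e4 ?_ ?_ ?_ ?_ hpure' ?_
    · have h1 : 2 * M ≤ a := (Nat.le_ceil _).trans (by exact_mod_cast e5)
      linarith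
    · intro K h1 h2
      exact hE.2.2.2 _ K.1.arrow inferInstance K.2 _ _ (isHilbPoly_of_HP k (HP_PC K)) (isHilbPoly_of_HP k HP_top) h1 h2
    · intro F σ hF hσ hw hT
      have hw' : ∀ i, Lat5.C1 M μ r ≤ i → i < a - Lat5.C1 M μ r → H.num.w F ⊤ i = σ := hw
      have e6 : a - a / 4 - 1 + 1 = a - a / 4 := by omega
      have hsat : ∀ B, Lat2.S H.num (Lat5.C1 M μ r) F (a - a / 4 - 1 + 1) ≤ B →
          alpha (g + 1) (PC B) = alpha (g + 1) (PC (Lat2.S H.num (Lat5.C1 M μ r) F (a - a / 4 - 1 + 1))) →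
            B ≤ Lat2.S H.num (Lat5.C1 M μ r) F (a - a / 4 - 1 + 1) := by
        intro B hB1 hB2
        have h1 : (hC s)^[a - a / 4 - 1 + 1] ⊤ ≤ B := (Lat2.hp_le_S H.num _ F _).trans hB1
        have h2 := H.num.sat_max hB1 ((H.num.r_of_top h1).trans
          (Lat2.r_S H.num (Lat5.C1 M μ r) F (a - a / 4 - 1 + 1)).symm) hB2
        rwa [Lat2.sat_S] at h2
      obtain ⟨K, Kg, h1, h2, h3, h4, h5, h6, h7⟩ := hgeo s (Lat2.S H.num (Lat5.C1 M μ r) F) (a - a / 4 - 1) σ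
        (Lat2.S_zero _ _ _) (Lat2.S_succ_le _ _ _) (Lat2.h_S_le _ _ _)
        (fun j hj => (Lat2.S_inf_h H.num hw' (by omega)).le) (Lat2.r_S H.num (Lat5.C1 M μ r) F)
        (fun j hj => Lat2.m_S H.num hw' (by omega)) hsat hσ hT
      rw [e6] at h2
      exact ⟨K, Kg, h1, h2, fun B hB1 hB2 => le_antisymm (h3 B hB1 hB2) hB1, h4, h5, h6, h7⟩
    · intro K hK hK𝒮
      exact hcc s K (fun B hB1 hB2 => (hK B hB1 hB2).le) hK𝒮
    · intro h2
      exact ((hTrans k n g (ℓ - 1) E hdim s a).mp (hlow' h2 a e2 s (Set.subset_union_right.trans hs))).2.2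

end K781.Stab
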